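import Cfsg.Agent.Blocks.AbelianFree.Families
import Cfsg.Agent.Blocks.CyclicInertia

/-!
# Inertial index at most three

With `e ≤ 3` there are exactly `e + (|P| - 1) / e` characters, except perhaps when `|P|` is prime,
where a lower bound for the rank is used.  Also the setting of a block in the usual vocabulary.
-/

set_option autoImplicit false
open scoped MonoidAlgebra ComplexConjugate Classical
open Cfsg CfsgLib CfsgLib.Blocks CfsgLib.Blocks.HeightZero CfsgLib.Blocks.Contrib
open CfsgLib.Blocks.AbelianFrobenius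

namespace CfsgLib.Blocks.AbelianFree

universe u

variable {G : Type u} [Group G] [Fintype G] {p : ℕ} {M : Ideal AlgInt} [M.IsMaximal]

/-- Few nonzero squares with a small sum. -/
theorem sq_eq_one_of_sum_le {ι : Type*} {X : Finset ι} {r : ι → ℤ} (h : ∀ i ∈ X, r i ≠ 0)
    (hle : ∑ i ∈ X, r i ^ 2 ≤ (X.card : ℤ) + 2) : ∀ i ∈ X, r i ^ 2 = 1 := by
  intro i hi
  have h1 : ((X.erase i).card : ℤ) ≤ ∑ j ∈ X.erase i, r j ^ 2 :=
    Setting.card_le_sum_sq fun j hj => h j (Finset.mem_of_mem_erase hj)
  rw [← Finset.add_sum_erase X _ hi] at hle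
  have h2 := Finset.card_erase_add_one hi
  have h3 : r i ^ 2 ≤ 3 := by omega
  have h4 := h i hi
  have h5 : r i ≤ 1 := by nlinarith
  have h6 : -1 ≤ r i := by nlinarith
  have h7 : r i = 1 ∨ r i = -1 := by omega
  rcases h7 with e | e <;> simp [e]

theorem sum_eq_card_of_sum_le {ι : Type*} {X : Finset ι} {r : ι → ℤ} (h : ∀ i ∈ X, r i ≠ 0)
    (hle : ∑ i ∈ X, r i ^ 2 ≤ (X.card : ℤ) + 2) : ∑ i ∈ X, r i ^ 2 = X.card := by
  rw [Finset.sum_congr rfl (sq_eq_one_of_sum_le h hle)]
  simp

/-- The setting of a block and a block of the centralizer of its defect group. -/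
theorem Setting.of_block [Fact p.Prime] [CharP (kres M) p] (hM : IsPModular p M)
    {B : Set (IrrCharacter G)} (hB : IsPBlock M B) {P : Subgroup G}
    (hPD : IsDefectGroup p M B P) (hPab : ∀ x ∈ P, ∀ y ∈ P, x * y = y * x)
    {c : Set (IrrCharacter (cn P))} (hc : IsInducedBlock M (cn P) c B) {T : Subgroup G}
    (hT : ∀ g : G, g ∈ T ↔ (g ∈ Subgroup.normalizer (P : Set G) ∧ StabilizesBlock (cn P) c g))
    (hfree : ∀ g ∈ T, ∀ x ∈ P, x ≠ 1 → g * x * g⁻¹ = x → g ∈ cn P) :
    Setting p M B P (subEl M (cn P) c) ∧ T = pairStab ⊤ P (subEl M (cn P) c) := by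
  have hP : IsPGroup p P := ((isDefectGroup_topEl_iff (p := p) hB P).1 hPD).2.1
  have hPC : P ≤ cn P := fun u hu => Subgroup.mem_centralizer_iff.mpr fun q hq => hPab q hq u hu
  have hTE := eq_pairStab hc.1 hT
  refine ⟨⟨hM, hB, hPD, hPab, ⟨⟨hP, le_top, ?_⟩, ?_⟩, hTE ▸ hfree⟩, hTE⟩
  · rw [top_inf_eq]
    exact isBlockIdem_subEl hc.1
  · exact (isInducedBlock_iff_brOver hM hP hPC le_rfl (Subgroup.centralizer_le_normalizer _) hc.1
      hB).1 hc

namespace Setting

variable [Fact p.Prime] [CharP (kres M) p] {B : Set (IrrCharacter G)} {P : Subgroup G}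
  {f : MonoidAlgebra (kres M) G}

/-- With `e ≤ 3` the rank is `e`. -/
theorem blockRank_eq_of_le_three (h : Setting p M B P f) (hP : P ≠ ⊥)
    (he : Nat.card (aut P f) ≤ 3)
    (hlow : (Nat.card P).Prime → Nat.card (aut P f) ≤ blockRank p B) :
    blockRank p B = Nat.card (aut P f) := by
  refine le_antisymm (h.blockRank_le hP) ?_
  have hl := CyclicInertia.blockRank_pos h.hM h.hB
  have hk := h.natCard_eq_rank_add
  have hcard := h.card_orb
  set e := Nat.card (aut P f) with hedef
  set m := Nat.card (Orb (aut P f)) with hmdef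
  rcases Nat.lt_or_ge m 2 with hm | hm
  · haveI := h.finite_orb
    have hm0 : m ≠ 0 := by
      intro h0
      rw [h0, zero_mul, zero_add] at hcard
      exact hP (Subgroup.eq_bot_of_card_eq _ hcard.symm)
    haveI : Subsingleton (Orb (aut P f)) := Finite.card_le_one_iff_subsingleton.1 (by omega)
    obtain ⟨⟨i⟩⟩ := (Nat.card_pos_iff.1 (Nat.pos_of_ne_zero hm0))
    have hX : B.toFinite.toFinset.card = Nat.card B := by
      rw [← Set.ncard_eq_toFinset_card B B.toFinite, ← Nat.card_coe_set_eq]
    have h1 : ∑ χ ∈ B.toFinite.toFinset, xrow p P f χ (Orb.rep (aut P f) i) ^ 2 = 1 + (e : ℤ) := by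
      simp only [sq, h.sum_xrow_rep, if_true, ← hedef]
    have h2 := sum_eq_card_of_sum_le (X := B.toFinite.toFinset)
      (r := fun χ => xrow p P f χ (Orb.rep (aut P f) i)) (fun χ hχ => ?_) (by rw [h1, hX]; omega)
    · rw [h1, hX] at h2
      omega
    · obtain ⟨j, hj⟩ := h.exists_xrow_ne_zero hP ((Set.Finite.mem_toFinset _).1 hχ)
      rwa [Subsingleton.elim i j]
  · obtain ⟨δ, s, r, ζ, hF⟩ := h.exists_family hm
    have hn := h.natCard_eq_of_family hF
    set X := B.toFinite.toFinset.filter (fun χ => χ ∉ Set.range ζ) with hXdef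
    have hr : ∀ χ ∈ X, r χ ≠ 0 := fun χ hχ => by
      rw [hXdef, Finset.mem_filter, Set.Finite.mem_toFinset] at hχ
      exact hF.ne_zero χ hχ.1 hχ.2
    have hq := hF.sum_sq
    rw [← hedef, ← hmdef, ← hXdef] at hq
    have hrank : blockRank p B = X.card := by omega
    by_contra hlt
    push Not at hlt
    have hm' : (2 : ℤ) ≤ (m : ℤ) := by exact_mod_cast hm
    have hlow' := card_le_sum_sq hr
    have hs : s = 0 ∨ s = -1 := by
      have hb : (m : ℤ) * s ^ 2 + 2 * s ≤ 2 := by omega
      have h3 : 2 * s ^ 2 + 2 * s ≤ 2 := by nlinarith [sq_nonneg s]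
      have h4 : s ≤ 0 := by
        by_contra h5
        push Not at h5
        nlinarith
      have h5 : -1 ≤ s := by nlinarith
      omega
    have hcases : e = 2 ∨ e = 3 := by omega
    have hnot : ∀ q : ℕ, q.Prime → Nat.card P = q → False := fun q hq hPq => by
      have := hlow (hPq ▸ hq)
      omega
    rcases hs with rfl | rfl
    · have h2 := sum_eq_card_of_sum_le hr (by rw [hq]; push_cast; omega)
      rw [hq] at h2
      push_cast at h2
      omega
    · norm_num at hq
      have h2 := sum_eq_card_of_sum_le hr (by rw [hq]; omega)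
      rw [hq] at h2
      have hmle : m ≤ 4 := by omega
      rcases hcases with he2 | he3
      · have hX1 : X.card = 1 := by omega
        have hm3 : m = 3 := by omega
        rw [hm3, he2] at hcard
        exact hnot 7 (by norm_num) hcard.symm
      · rcases (show X.card = 1 ∨ X.card = 2 by omega) with hX | hX
        · have hm4 : m = 4 := by omega
          rw [hm4, he3] at hcard
          exact hnot 13 (by norm_num) hcard.symm
        · have hm3 : m = 3 := by omega
          rw [hm3, he3] at hcard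
          obtain ⟨k, hk⟩ := IsPGroup.iff_card.1 h.isPGroup
          rw [← hcard] at hk
          have h2d : 2 ∣ p ^ k := ⟨5, by omega⟩
          have h5d : 5 ∣ p ^ k := ⟨2, by omega⟩
          have e2 := (Nat.prime_dvd_prime_iff_eq Nat.prime_two h.hM.1).1
            (Nat.prime_two.dvd_of_dvd_pow h2d)
          have e5 := (Nat.prime_dvd_prime_iff_eq (by norm_num) h.hM.1).1
            ((show Nat.Prime 5 by norm_num).dvd_of_dvd_pow h5d)
          omega

end Setting

end CfsgLib.Blocks.AbelianFree
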