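import Cfsg.Agent.Blocks.AbelianFree.Global

/-!
# The integral rows of the block

`xrow P f χ ψ = m ψ - m 1` for the multiplicities `m` of a generalized character agreeing with the
signed scalars of `χ` off the identity.  These integers are constant on inertial orbits, have the
Gram matrix `[i = j] + e` on orbit representatives, and are orthogonal to the regular elements.
-/

set_option autoImplicit false
open scoped MonoidAlgebra ComplexConjugate Classical
open Cfsg CfsgLib CfsgLib.Blocks CfsgLib.Blocks.HeightZero CfsgLib.Blocks.Contrib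
open CfsgLib.Blocks.AbelianFrobenius

namespace CfsgLib.Blocks.AbelianFree

universe u

variable {G : Type u} [Group G] [Fintype G] {p : ℕ} {M : Ideal AlgInt} [M.IsMaximal]

/-- The sum defining the row of `χ`. -/
noncomputable def xsum (p : ℕ) (P : Subgroup G) (f : MonoidAlgebra (kres M) G) (χ : IrrCharacter G)
    (ψ : P →* ℂˣ) : ℂ :=
  ∑ v : P, gval p P f χ v * ((ψ v⁻¹ : ℂ) - 1)

/-- The row of `χ`. -/
noncomputable def xrow (p : ℕ) (P : Subgroup G) (f : MonoidAlgebra (kres M) G) (χ : IrrCharacter G)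
    (ψ : P →* ℂˣ) : ℤ :=
  if h : ∃ n : ℤ, (Nat.card P : ℂ) * (n : ℂ) = xsum p P f χ ψ then h.choose else 0

namespace Setting

variable [Fact p.Prime] [CharP (kres M) p] {B : Set (IrrCharacter G)} {P : Subgroup G}
  {f : MonoidAlgebra (kres M) G}

theorem isMulComm (h : Setting p M B P f) : IsMulCommutative P :=
  ⟨⟨fun a b => Subtype.ext (h.comm a a.2 b b.2)⟩⟩

theorem finite_linChar (h : Setting p M B P f) : Finite (P →* ℂˣ) := by
  haveI := h.isMulComm
  exact Nat.finite_of_card_ne_zero (by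
    rw [Chars.card_monoidHom_units]; exact Subgroup.index_ne_zero_of_finite)

theorem xrow_spec (h : Setting p M B P f) (χ : IrrCharacter G) (ψ : P →* ℂˣ) :
    (Nat.card P : ℂ) * (xrow p P f χ ψ : ℂ) = xsum p P f χ ψ := by
  haveI := h.isMulComm
  haveI := h.finite_linChar
  haveI := Fintype.ofFinite (P →* ℂˣ)
  have hex : ∃ n : ℤ, (Nat.card P : ℂ) * (n : ℂ) = xsum p P f χ ψ := by
    obtain ⟨Φ, hΦ, hoff⟩ := h.exists_genChar χ
    obtain ⟨m, hm⟩ := exists_coeff hΦ
    refine ⟨m ψ - m 1, ?_⟩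
    have hinner : ∀ φ : P →* ℂˣ, ∑ v, Φ v * (φ v⁻¹ : ℂ) = (Fintype.card P : ℂ) * m φ := by
      intro φ
      simp only [hm, Finset.sum_mul, mul_assoc]
      rw [Finset.sum_comm, Finset.sum_eq_single φ]
      · rw [← Finset.mul_sum, sum_mul_inv, if_pos rfl, mul_comm]
      · intro φ' _ hφ
        rw [← Finset.mul_sum, sum_mul_inv, if_neg hφ, mul_zero]
      · simp
    have h1 := hinner 1
    simp only [MonoidHom.one_apply, Units.val_one, mul_one] at h1
    rw [xsum, Finset.sum_congr rfl (g := fun v => Φ v * (ψ v⁻¹ : ℂ) - Φ v) fun v _ => ?_,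
      Finset.sum_sub_distrib, hinner, h1, Nat.card_eq_fintype_card]
    · push_cast
      ring
    · by_cases hv : v = 1
      · simp [hv, gval_one]
      · rw [hoff v hv]
        ring
  rw [xrow, dif_pos hex]
  exact hex.choose_spec

theorem xrow_one (h : Setting p M B P f) (χ : IrrCharacter G) : xrow p P f χ 1 = 0 := by
  have h1 := h.xrow_spec χ 1
  simp only [xsum, MonoidHom.one_apply, Units.val_one, sub_self, mul_zero, Finset.sum_const_zero,
    mul_eq_zero, Nat.cast_eq_zero, Int.cast_eq_zero, Nat.card_pos.ne', false_or] at h1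
  exact h1

/-- The rows are constant on inertial orbits. -/
theorem xrow_twist (h : Setting p M B P f) {a : MulAut P} (ha : a ∈ aut P f) (χ : IrrCharacter G)
    (ψ : P →* ℂˣ) : xrow p P f χ (twist a ψ) = xrow p P f χ ψ := by
  have h1 := h.xrow_spec χ (twist a ψ)
  have h2 := h.xrow_spec χ ψ
  have e : xsum p P f χ (twist a ψ) = xsum p P f χ ψ := by
    rw [xsum, xsum]
    refine Fintype.sum_equiv a.toEquiv _ _ fun v => ?_
    rw [MulEquiv.toEquiv_eq_coe, EquivLike.coe_coe, h.gval_aut ha, twist_apply, map_inv]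
  rw [e, ← h2] at h1
  exact_mod_cast mul_left_cancel₀ (Nat.cast_ne_zero.2 Nat.card_pos.ne') h1

theorem conj_xsum (h : Setting p M B P f) (χ : IrrCharacter G) (ψ : P →* ℂˣ) :
    conj (xsum p P f χ ψ) = xsum p P f χ ψ := by
  rw [← h.xrow_spec, map_mul, map_natCast, map_intCast]

/-- The Gram matrix of the rows. -/
theorem sum_xrow_mul (h : Setting p M B P f) (ψ φ : P →* ℂˣ) :
    ∑ χ ∈ B.toFinite.toFinset, xrow p P f χ ψ * xrow p P f χ φ =
      fixCount (A := aut P f) φ ψ - fixCount (A := aut P f) (1 : P →* ℂˣ) ψ -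
        fixCount (A := aut P f) φ 1 + Fintype.card (aut P f) := by
  haveI := h.isMulComm
  haveI := h.finite_linChar
  haveI := Fintype.ofFinite (P →* ℂˣ)
  set N : ℂ := (Nat.card P : ℂ) with hN
  have hN0 : N ≠ 0 := Nat.cast_ne_zero.2 Nat.card_pos.ne'
  suffices hC : N * N * ((∑ χ ∈ B.toFinite.toFinset, xrow p P f χ ψ * xrow p P f χ φ : ℤ) : ℂ) =
      N * N * ((fixCount (A := aut P f) φ ψ - fixCount (A := aut P f) (1 : P →* ℂˣ) ψ -
        fixCount (A := aut P f) φ 1 + Fintype.card (aut P f) : ℤ) : ℂ) by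
    exact_mod_cast mul_left_cancel₀ (mul_ne_zero hN0 hN0) hC
  have hsum : ∀ u : P, ∀ χ' : P →* ℂˣ, ∀ v : P,
      ((χ' v⁻¹ : ℂ) - 1) * conj ((φ u⁻¹ : ℂ) - 1) = ((χ' v⁻¹ : ℂ) - 1) * ((φ u : ℂ) - 1) := by
    intro u χ' v
    rw [map_sub, map_one, conj_linChar, inv_inv]
  calc N * N * ((∑ χ ∈ B.toFinite.toFinset, xrow p P f χ ψ * xrow p P f χ φ : ℤ) : ℂ)
      = ∑ χ ∈ B.toFinite.toFinset, xsum p P f χ ψ * conj (xsum p P f χ φ) := by
        push_cast
        rw [Finset.mul_sum]
        refine Finset.sum_congr rfl fun χ _ => ?_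
        rw [h.conj_xsum, ← h.xrow_spec, ← h.xrow_spec, ← hN]
        ring
    _ = ∑ v : P, ∑ u : P, ((ψ v⁻¹ : ℂ) - 1) * ((φ u : ℂ) - 1) *
          ∑ χ ∈ B.toFinite.toFinset, gval p P f χ v * conj (gval p P f χ u) := by
        rw [Finset.sum_congr rfl fun χ _ => by rw [xsum, xsum, map_sum, Finset.sum_mul_sum],
          Finset.sum_comm]
        refine Finset.sum_congr rfl fun v _ => ?_
        rw [Finset.sum_comm]
        refine Finset.sum_congr rfl fun u _ => ?_
        rw [Finset.mul_sum]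
        refine Finset.sum_congr rfl fun χ _ => ?_
        rw [map_mul, ← hsum u ψ v]
        ring
    _ = ∑ v : P, ∑ a : aut P f, N * (((ψ v⁻¹ : ℂ) - 1) * ((φ ((a : MulAut P) v) : ℂ) - 1)) := by
        refine Finset.sum_congr rfl fun v _ => ?_
        by_cases hv : v = 1
        · subst hv
          simp [gval_one]
        rw [Finset.sum_congr rfl (g := fun u : P => ∑ a : aut P f, if (a : MulAut P) v = u then
          N * (((ψ v⁻¹ : ℂ) - 1) * ((φ u : ℂ) - 1)) else 0) fun u _ => ?_, Finset.sum_comm]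
        · exact Finset.sum_congr rfl fun a _ => by
            rw [Finset.sum_ite_eq, if_pos (Finset.mem_univ _)]
        by_cases hu : u = 1
        · subst hu
          simp [gval_one]
        · rw [h.sum_gval_mul_conj hv hu, ← hN, Finset.mul_sum, Finset.mul_sum]
          refine Finset.sum_congr rfl fun a _ => ?_
          split_ifs <;> ring
    _ = ∑ v : P, N * ((∑ a : aut P f, (φ ((a : MulAut P) v) : ℂ)) * (ψ v⁻¹ : ℂ) -
          (∑ a : aut P f, ((1 : P →* ℂˣ) ((a : MulAut P) v) : ℂ)) * (ψ v⁻¹ : ℂ) -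
          (∑ a : aut P f, (φ ((a : MulAut P) v) : ℂ)) * ((1 : P →* ℂˣ) v⁻¹ : ℂ) +
          (∑ a : aut P f, ((1 : P →* ℂˣ) ((a : MulAut P) v) : ℂ)) *
            ((1 : P →* ℂˣ) v⁻¹ : ℂ)) := by
        refine Finset.sum_congr rfl fun v _ => ?_
        simp only [MonoidHom.one_apply, Units.val_one, mul_one, Finset.sum_mul,
          ← Finset.sum_sub_distrib, ← Finset.sum_add_distrib, Finset.mul_sum]
        exact Finset.sum_congr rfl fun a _ => by ring
    _ = _ := by
        rw [← Finset.mul_sum, Finset.sum_add_distrib, Finset.sum_sub_distrib,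
          Finset.sum_sub_distrib, sum_twist_mul_inv, sum_twist_mul_inv, sum_twist_mul_inv,
          sum_twist_mul_inv, fixCount_one_one, ← Nat.card_eq_fintype_card (α := P), ← hN]
        push_cast
        ring

theorem sum_xrow_rep (h : Setting p M B P f) [DecidableEq (Orb (aut P f))]
    (i j : Orb (aut P f)) :
    ∑ χ ∈ B.toFinite.toFinset,
      xrow p P f χ (Orb.rep (aut P f) i) * xrow p P f χ (Orb.rep (aut P f) j) =
      (if i = j then 1 else 0) + (Nat.card (aut P f) : ℤ) := by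
  rw [h.sum_xrow_mul, fixCount_rep h.fpf, fixCount_one_left (Orb.rep_ne_one _ i),
    fixCount_one_right (Orb.rep_ne_one _ j), Nat.card_eq_fintype_card]
  simp [eq_comm]

/-- The rows are orthogonal to the regular elements. -/
theorem sum_apply_mul_xrow (h : Setting p M B P f) {g : G} (hg : IsPRegular p g) (ψ : P →* ℂˣ) :
    ∑ χ ∈ B.toFinite.toFinset, (xrow p P f χ ψ : ℂ) * (χ : G → ℂ) g = 0 := by
  refine mul_left_cancel₀ (b := (_ : ℂ)) (Nat.cast_ne_zero.2 (Nat.card_pos (α := P)).ne') ?_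
  rw [mul_zero, Finset.mul_sum, Finset.sum_congr rfl fun χ _ => by
    rw [← mul_assoc, h.xrow_spec, ← h.conj_xsum, mul_comm, xsum, map_sum, Finset.mul_sum],
    Finset.sum_comm]
  refine Finset.sum_eq_zero fun v _ => ?_
  rw [Finset.sum_congr rfl fun χ _ => by rw [map_mul, ← mul_assoc], ← Finset.sum_mul,
    h.sum_apply_mul_gval hg v, zero_mul]

/-- The rows give back the scalars. -/
theorem gval_eq_sum_xrow (h : Setting p M B P f) [Fintype (P →* ℂˣ)] (χ : IrrCharacter G) {u : P}
    (hu : u ≠ 1) : gval p P f χ u = ∑ ψ : P →* ℂˣ, (xrow p P f χ ψ : ℂ) * (ψ u : ℂ) := by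
  haveI := h.isMulComm
  have hN0 : (Nat.card P : ℂ) ≠ 0 := Nat.cast_ne_zero.2 Nat.card_pos.ne'
  refine mul_left_cancel₀ hN0 ?_
  rw [Finset.mul_sum, Finset.sum_congr rfl fun ψ _ => by
    rw [← mul_assoc, h.xrow_spec, xsum, Finset.sum_mul], Finset.sum_comm, Finset.sum_eq_single u]
  · rw [Finset.sum_congr rfl (g := fun ψ : P →* ℂˣ => gval p P f χ u * (1 - (ψ u : ℂ))) fun ψ _ => ?_,
      ← Finset.mul_sum, Finset.sum_sub_distrib, sum_apply_eq_zero hu, sub_zero, Finset.sum_const,
      Finset.card_univ, card_linChar, nsmul_eq_mul, mul_one, Nat.card_eq_fintype_card, mul_comm]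
    rw [mul_assoc, sub_mul, one_mul, ← Units.val_mul, ← map_mul, inv_mul_cancel, map_one,
      Units.val_one]
  · intro v _ hvu
    rw [Finset.sum_congr rfl fun ψ _ => by
      rw [mul_assoc, sub_mul, one_mul, ← Units.val_mul, ← map_mul], ← Finset.mul_sum,
      Finset.sum_sub_distrib, sum_apply_eq_zero hu,
      sum_apply_eq_zero fun e => hvu (inv_mul_eq_one.1 e), sub_zero, mul_zero]
  · exact fun h' => absurd (Finset.mem_univ _) h'

/-- No row of the block vanishes. -/
theorem exists_xrow_ne_zero (h : Setting p M B P f) (hP : P ≠ ⊥) {χ : IrrCharacter G} (hχ : χ ∈ B) :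
    ∃ i : Orb (aut P f), xrow p P f χ (Orb.rep (aut P f) i) ≠ 0 := by
  haveI := h.finite_linChar
  haveI := Fintype.ofFinite (P →* ℂˣ)
  obtain ⟨u, hu⟩ := Subgroup.ne_bot_iff_exists_ne_one.mp hP
  by_contra hcon
  push Not at hcon
  refine h.gval_ne_zero hχ hu ?_
  rw [h.gval_eq_sum_xrow χ hu]
  refine Finset.sum_eq_zero fun ψ _ => ?_
  by_cases hψ : ψ = 1
  · rw [hψ, h.xrow_one, Int.cast_zero, zero_mul]
  · obtain ⟨i, a, ha, rfl⟩ := Orb.exists_twist_rep (aut P f) hψ
    rw [h.xrow_twist ha, hcon i, Int.cast_zero, zero_mul]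

end Setting

end CfsgLib.Blocks.AbelianFree
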