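import Cfsg.Agent.Blocks.AbelianFree.Coeff
import Cfsg.Agent.Blocks.KLSum.SingularSum

/-!
# The number of singular subsections

Every subsection of the block at an element `≠ 1` is conjugate below `(P, f)`, has rank one, and
`e (k - l) = |P| - 1`.
-/

set_option autoImplicit false
open scoped MonoidAlgebra ComplexConjugate Classical
open Cfsg CfsgLib CfsgLib.Blocks CfsgLib.Blocks.HeightZero CfsgLib.Blocks.Contrib
open CfsgLib.Blocks.AbelianFrobenius

namespace CfsgLib.Blocks.AbelianFree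

universe u

variable {G : Type u} [Group G] [Fintype G] {p : ℕ} {M : Ideal AlgInt} [M.IsMaximal]

/-- The order of the inertial automorphism group is the inertial index. -/
theorem natCard_aut {P : Subgroup G} (f : MonoidAlgebra (kres M) G) :
    Nat.card (aut P f) = (cn P).relIndex (pairStab ⊤ P f) := by
  rw [aut, ← Subgroup.index_ker, Subgroup.relIndex]
  congr 1
  ext t
  rw [MonoidHom.mem_ker, MonoidHom.comp_apply, ← MonoidHom.mem_ker,
    Subgroup.normalizerMonoidHom_ker, Subgroup.mem_subgroupOf, Subgroup.mem_subgroupOf,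
    Subgroup.coe_inclusion]

/-- A subsection of `G` at an element of `P`, carried by an element of `G`. -/
noncomputable def subsec (p : ℕ) (P : Subgroup G) (f : MonoidAlgebra (kres M) G) (a : P × G) :
    G × MonoidAlgebra (kres M) G :=
  (a.2 * (a.1 : G) * a.2⁻¹,
    conjA a.2 (subEl M (cn (Subgroup.zpowers (a.1 : G))) (bl p P f (Subgroup.zpowers (a.1 : G)))))

namespace Setting

variable [Fact p.Prime] [CharP (kres M) p] {B : Set (IrrCharacter G)} {P : Subgroup G}
  {f : MonoidAlgebra (kres M) G}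

/-- Every singular subsection of the block comes from below the pair. -/
theorem exists_subsec (h : Setting p M B P f) {x : G} (hx : ∃ e : ℕ, orderOf x = p ^ e) (hx1 : x ≠ 1)
    {β : Set (IrrCharacter (cn (Subgroup.zpowers x)))}
    (hβ : IsInducedBlock M (cn (Subgroup.zpowers x)) β B) :
    (∃ a : P × G, a.1 ≠ 1 ∧ subsec p P f a = (x, subEl M (cn (Subgroup.zpowers x)) β)) ∧
      blockRank p β = 1 := by
  obtain ⟨e, he⟩ := hx
  have hp : IsPGroup p (Subgroup.zpowers x) :=
    IsPGroup.of_card (n := e) (by rw [Nat.card_zpowers, he])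
  have hle : Subgroup.zpowers x ≤ cn (Subgroup.zpowers x) := by
    rw [Subgroup.zpowers_le, cn, centralizer_zpowers_eq, Subgroup.mem_centralizer_singleton_iff]
  have hE := isBlockIdem_topEl (M := M) h.hB
  have hpair : IsPairOfIdem p ⊤ (topEl M B) (Subgroup.zpowers x)
      (subEl M (cn (Subgroup.zpowers x)) β) :=
    ⟨⟨hp, le_top, by rw [top_inf_eq]; exact isBlockIdem_subEl hβ.1⟩,
      (isInducedBlock_iff_brOver h.hM hp hle le_rfl (Subgroup.centralizer_le_normalizer _) hβ.1
        h.hB).1 hβ⟩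
  obtain ⟨g, -, hg⟩ := hpair.exists_conj_le hE h.isMax
  have hmap : (Subgroup.zpowers x).map (MulAut.conj g).toMonoidHom =
      Subgroup.zpowers (g * x * g⁻¹) := by
    rw [MonoidHom.map_zpowers]; rfl
  rw [hmap] at hg
  have hv : g * x * g⁻¹ ∈ P := hg.le (Subgroup.mem_zpowers _)
  set v : P := ⟨g * x * g⁻¹, hv⟩ with hvdef
  have hv1 : v ≠ 1 := fun e => hx1 (by
    have := congrArg (fun w : P => g⁻¹ * (w : G) * g) e
    simpa [hvdef, mul_assoc] using this)
  have heq := PairLE.unique h.pair.1 hg (h.spec (h.zpowers_le v)).2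
  refine ⟨⟨(v, g⁻¹), hv1, ?_⟩, ?_⟩
  · rw [subsec]
    refine Prod.ext (by simp [hvdef, mul_assoc]) ?_
    show conjA g⁻¹ (subEl M (cn (Subgroup.zpowers (g * x * g⁻¹)))
      (bl p P f (Subgroup.zpowers (g * x * g⁻¹)))) = _
    rw [← heq, conjA_conjA, inv_mul_cancel, conjA_one_left]
  · have hmapC : (cn (Subgroup.zpowers x)).map (MulAut.conj g).toMonoidHom =
        cn (Subgroup.zpowers (g * x * g⁻¹)) := by rw [map_cn, hmap]
    have hb : mapBlock (conjIso _ _ g hmapC) β = bl p P f (Subgroup.zpowers (g * x * g⁻¹)) := by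
      refine subEl_injective (M := M) (isPBlock_mapBlock _ hβ.1) (h.blk (h.zpowers_le v)) ?_
      rw [subEl_mapBlock_conj]
      exact heq
    rw [← KLSum.blockRank_mapBlock (conjIso _ _ g hmapC) β, hb]
    exact (h.reg_zpowers hv1).rank

/-- The elements carrying a given subsection. -/
theorem card_subsec_fiber (h : Setting p M B P f) {a₀ : P × G} (ha₀ : a₀.1 ≠ 1) :
    (Finset.univ.filter fun a : P × G => a.1 ≠ 1 ∧ subsec p P f a = subsec p P f a₀).card =
      Nat.card (cn (Subgroup.zpowers (subsec p P f a₀).1)) * Nat.card (aut P f) := by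
  obtain ⟨v₀, g₀⟩ := a₀
  have hmap : (cn (Subgroup.zpowers (v₀ : G))).map (MulAut.conj g₀).toMonoidHom =
      cn (Subgroup.zpowers (g₀ * (v₀ : G) * g₀⁻¹)) := by
    rw [map_cn, MonoidHom.map_zpowers]; rfl
  rw [show (subsec p P f (v₀, g₀)).1 = g₀ * (v₀ : G) * g₀⁻¹ from rfl,
    ← Nat.card_congr (conjIso _ _ g₀ hmap).toEquiv, Nat.card_eq_fintype_card,
    Nat.card_eq_fintype_card, ← Fintype.card_prod, ← Finset.card_univ]
  have ht : ∀ a : aut P f, ∃ t ∈ pairStab ⊤ P f, ∀ v : P,
      ((a : MulAut P) v : G) = t * v * t⁻¹ := fun a => mem_aut.1 a.2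
  choose t htE hta using ht
  have hconj : ∀ a : aut P f, t a * ((a : MulAut P)⁻¹ v₀ : P) * (t a)⁻¹ = (v₀ : G) := fun a => by
    rw [← hta a, MulAut.apply_inv_self]
  have hidem : ∀ a : aut P f, conjA (t a)
      (subEl M _ (bl p P f (Subgroup.zpowers (((a : MulAut P)⁻¹ v₀ : P) : G)))) =
      subEl M _ (bl p P f (Subgroup.zpowers (v₀ : G))) := fun a => by
    have h1 := (h.spec (h.zpowers_le ((a : MulAut P)⁻¹ v₀))).2.conjA (x := t a) trivial
    rw [h.map_stab (htE a), (mem_pairStab.mp (htE a)).2, MonoidHom.map_zpowers,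
      show (MulAut.conj (t a)).toMonoidHom (((a : MulAut P)⁻¹ v₀ : P) : G) = (v₀ : G) from
        hconj a] at h1
    exact PairLE.unique h.pair.1 h1 (h.spec (h.zpowers_le v₀)).2
  symm
  refine Finset.card_bij (fun ca _ => ((ca.2 : MulAut P)⁻¹ v₀, g₀ * (ca.1 : G) * t ca.2))
    (fun ca _ => ?_) (fun ca _ cb _ heq => ?_) (fun b hb => ?_)
  · obtain ⟨c, a⟩ := ca
    have hcv : (c : G) * (v₀ : G) * (c : G)⁻¹ = (v₀ : G) := by
      rw [← Subgroup.mem_centralizer_iff.mp c.2 (v₀ : G) (Subgroup.mem_zpowers _),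
        mul_inv_cancel_right]
    rw [Finset.mem_filter]
    refine ⟨Finset.mem_univ _, fun e => ha₀ ?_, Prod.ext ?_ ?_⟩
    · simpa using congrArg (a : MulAut P) e
    · show g₀ * (c : G) * t a * (((a : MulAut P)⁻¹ v₀ : P) : G) * (g₀ * (c : G) * t a)⁻¹ = _
      calc _ = g₀ * ((c : G) * (t a * ((a : MulAut P)⁻¹ v₀ : P) * (t a)⁻¹) * (c : G)⁻¹) * g₀⁻¹ := by
            group
        _ = _ := by rw [hconj, hcv]; rfl
    · show conjA (g₀ * (c : G) * t a) _ = conjA g₀ _
      rw [← conjA_conjA, hidem, ← conjA_conjA, isFixedBy_iff_conjA.mp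
        (isBlockIdem_subEl (h.blk (h.zpowers_le v₀))).mem.2 _ c.2]
  · obtain ⟨c, a⟩ := ca
    obtain ⟨c', b⟩ := cb
    simp only [Prod.mk.injEq] at heq
    obtain ⟨h1, h2⟩ := heq
    have hab : a = b := by
      by_contra hne
      refine ha₀ (h.fpf _ ((aut P f).mul_mem a.2 ((aut P f).inv_mem b.2)) (fun e => hne ?_) v₀ ?_)
      · exact Subtype.ext (mul_inv_eq_one.1 e)
      · rw [MulAut.mul_apply, ← h1, MulAut.apply_inv_self]
    subst hab
    exact Prod.ext (Subtype.ext (mul_left_cancel (mul_right_cancel h2))) rfl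
  · obtain ⟨v, g⟩ := b
    rw [Finset.mem_filter] at hb
    obtain ⟨-, hv1, hb⟩ := hb
    rw [subsec, subsec, Prod.mk.injEq] at hb
    obtain ⟨hb1, hb2⟩ := hb
    set y := g₀⁻¹ * g with hy
    have hyv : y * (v : G) * y⁻¹ = (v₀ : G) := by
      calc y * (v : G) * y⁻¹ = g₀⁻¹ * (g * (v : G) * g⁻¹) * g₀ := by rw [hy]; group
        _ = (v₀ : G) := by rw [hb1]; group
    have hymap : (Subgroup.zpowers (v : G)).map (MulAut.conj y).toMonoidHom =
        Subgroup.zpowers (v₀ : G) := by
      rw [MonoidHom.map_zpowers]; exact congrArg Subgroup.zpowers hyv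
    obtain ⟨c, hc, hcy⟩ := h.fusion (h.zpowers_le v) (h.zpowers_le v₀) hymap (by
      rw [hy, ← conjA_conjA, hb2, conjA_conjA, inv_mul_cancel, conjA_one_left])
    have htv : c * y * (v : G) * (c * y)⁻¹ = (v₀ : G) := by
      calc _ = c * (y * (v : G) * y⁻¹) * c⁻¹ := by group
        _ = (v₀ : G) := by
          rw [hyv, ← Subgroup.mem_centralizer_iff.mp hc (v₀ : G) (Subgroup.mem_zpowers _),
            mul_inv_cancel_right]
    set a : aut P f := ⟨P.normalizerMonoidHom ⟨c * y, pairStab_le_normalizer _ _ _ hcy⟩,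
      mem_aut.2 ⟨c * y, hcy, fun w => rfl⟩⟩ with hadef
    have hav : (a : MulAut P) v = v₀ := Subtype.ext htv
    have hat : ∀ w : P, ((a : MulAut P) w : G) = c * y * w * (c * y)⁻¹ := fun w => rfl
    set d := c * y * (t a)⁻¹ with hd
    have hdC : d ∈ cn (Subgroup.zpowers (v₀ : G)) := by
      rw [cn, centralizer_zpowers_eq, Subgroup.mem_centralizer_singleton_iff]
      have h1 := (hta a v).symm.trans (hat v)
      rw [show c * y * (v : G) * (c * y)⁻¹ = (v₀ : G) from htv] at h1
      calc d * (v₀ : G) = c * y * (t a)⁻¹ * (t a * (v : G) * (t a)⁻¹) := by rw [h1, hd]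
        _ = c * y * (v : G) * (c * y)⁻¹ * d := by rw [hd]; group
        _ = (v₀ : G) * d := by rw [htv]
    refine ⟨(⟨c⁻¹ * d, Subgroup.mul_mem _ (Subgroup.inv_mem _ hc) hdC⟩, a), Finset.mem_univ _,
      Prod.ext ?_ ?_⟩
    · show (a : MulAut P)⁻¹ v₀ = v
      rw [← hav, MulAut.inv_apply_self]
    · show g₀ * (c⁻¹ * d) * t a = g
      rw [hd, hy]
      group

/-- `e (k - l) = |P| - 1`. -/
theorem card_mul_sub (h : Setting p M B P f) :
    (Nat.card (aut P f) : ℤ) * ((Nat.card B : ℤ) - blockRank p B) = (Nat.card P : ℤ) - 1 := by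
  set D := Finset.univ.filter (fun a : P × G => a.1 ≠ 1) with hD
  set e : ℤ := (Nat.card (aut P f) : ℤ) with he
  set X := Finset.univ.filter (fun x : G => (∃ e : ℕ, orderOf x = p ^ e) ∧ x ≠ 1) with hX
  set T := X.sigma (fun x => Finset.univ.filter
    fun β : Set (IrrCharacter (cn (Subgroup.zpowers x))) =>
      IsInducedBlock M (cn (Subgroup.zpowers x)) β B) with hT
  have hlw : ∀ x ∈ X, (KLSum.localWeight p M B (Subgroup.centralizer ({x} : Set G)) : ℤ) =
      ∑ β ∈ Finset.univ.filter (fun β : Set (IrrCharacter (cn (Subgroup.zpowers x))) =>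
        IsInducedBlock M (cn (Subgroup.zpowers x)) β B),
        (Nat.card (cn (Subgroup.zpowers x)) : ℤ) := by
    intro x hx
    simp only [hX, Finset.mem_filter, Finset.mem_univ, true_and] at hx
    rw [← centralizer_zpowers_eq, KLSum.localWeight, finsum_mem_eq_toFinset_sum, Nat.cast_mul,
      Finset.sum_congr rfl fun β hβ => (h.exists_subsec hx.1 hx.2
        (by simpa using hβ)).2, Finset.sum_const, Finset.sum_const, smul_eq_mul, mul_one,
      nsmul_eq_mul, mul_comm]
    congr 2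
    exact Finset.card_nbij id (fun β hβ => by simpa using hβ) (fun _ _ _ _ e => e)
      fun β hβ => ⟨β, by simpa using hβ, rfl⟩
  have hcount : (Nat.card G : ℤ) * ((Nat.card B : ℤ) - blockRank p B) =
      ∑ a ∈ T, (Nat.card (cn (Subgroup.zpowers a.1)) : ℤ) := by
    rw [KLSum.card_mul_sub_block h.hM h.hB, hT, Finset.sum_sigma]
    exact Finset.sum_congr rfl hlw
  have hsubT : ∀ a ∈ D, ∃ w ∈ T, subsec p P f a = (w.1, subEl M (cn (Subgroup.zpowers w.1)) w.2) := by
    rintro ⟨v, g⟩ ha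
    have hv : v ≠ 1 := (Finset.mem_filter.1 ha).2
    have hS := h.zpowers_le v
    have hmap : (cn (Subgroup.zpowers (v : G))).map (MulAut.conj g).toMonoidHom =
        cn (Subgroup.zpowers (g * (v : G) * g⁻¹)) := by
      rw [map_cn, MonoidHom.map_zpowers]; rfl
    refine ⟨⟨g * (v : G) * g⁻¹, mapBlock (conjIso _ _ g hmap) (bl p P f (Subgroup.zpowers (v : G)))⟩,
      ?_, by rw [subsec, subEl_mapBlock_conj]⟩
    simp only [hT, hX, Finset.mem_sigma, Finset.mem_filter, Finset.mem_univ, true_and]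
    obtain ⟨k, hk⟩ := h.orderOf_coe_pow v
    have hpair := (((h.spec hS).2.pairOf_iff (isBlockIdem_topEl h.hB) h.pair.1).2 h.pair).conjA
      (isBlockIdem_topEl (M := M) h.hB).mem (x := g) trivial
    rw [MonoidHom.map_zpowers, show (MulAut.conj g).toMonoidHom (v : G) = g * (v : G) * g⁻¹ from rfl] at hpair
    refine ⟨⟨⟨k, (MulEquiv.orderOf_eq (MulAut.conj g) (v : G)).trans hk⟩, fun e => hv ?_⟩, ?_⟩
    · have := congrArg (fun y => g⁻¹ * y * g) e
      exact Subtype.ext (by simpa [mul_assoc] using this)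
    · refine (isInducedBlock_iff_brOver h.hM hpair.1.1 ?_ le_rfl
        (Subgroup.centralizer_le_normalizer _) (isPBlock_mapBlock _ (h.blk hS)) h.hB).2 ?_
      · rw [Subgroup.zpowers_le, centralizer_zpowers_eq,
          Subgroup.mem_centralizer_singleton_iff]
      · rw [subEl_mapBlock_conj]
        exact hpair.2
  haveI : Nonempty ((x : G) × Set (IrrCharacter (cn (Subgroup.zpowers x)))) := ⟨⟨1, ∅⟩⟩
  choose! W hW hWs using hsubT
  have hinj : ∀ w ∈ T, ∀ w' ∈ T,
      (w.1, subEl M (cn (Subgroup.zpowers w.1)) w.2) =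
        (w'.1, subEl M (cn (Subgroup.zpowers w'.1)) w'.2) → w = w' := by
    rintro ⟨x, β⟩ hw ⟨x', β'⟩ hw' heq
    simp only [Prod.mk.injEq] at heq
    obtain ⟨rfl, he'⟩ := heq
    simp only [hT, Finset.mem_sigma, Finset.mem_filter, Finset.mem_univ, true_and] at hw hw'
    rw [subEl_injective (M := M) hw.2.1 hw'.2.1 he']
  have hfib : ∀ w ∈ T, ((D.filter fun a => W a = w).card : ℤ) =
      e * Nat.card (cn (Subgroup.zpowers w.1)) := by
    intro w hw
    obtain ⟨x, β⟩ := w
    have hw' := hw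
    simp only [hT, hX, Finset.mem_sigma, Finset.mem_filter, Finset.mem_univ, true_and] at hw'
    obtain ⟨a₀, ha₀, hs⟩ := (h.exists_subsec hw'.1.1 hw'.1.2 hw'.2).1
    have hset : (D.filter fun a => W a = ⟨x, β⟩) =
        Finset.univ.filter fun a : P × G => a.1 ≠ 1 ∧ subsec p P f a = subsec p P f a₀ := by
      ext a
      simp only [hD, Finset.mem_filter, Finset.mem_univ, true_and, hs]
      refine and_congr_right fun ha => ⟨fun e => ?_, fun e => ?_⟩
      · rw [hWs a (by simp [hD, ha]), e]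
      · exact hinj _ (hW a (by simp [hD, ha])) _ hw (by rw [← hWs a (by simp [hD, ha]), e])
    rw [hset, h.card_subsec_fiber ha₀, hs, he]
    push_cast
    ring
  have hdom : (D.card : ℤ) = ((Nat.card P : ℤ) - 1) * Nat.card G := by
    have : D = (Finset.univ.erase (1 : P)) ×ˢ (Finset.univ : Finset G) := by
      ext a
      simp [hD]
    rw [this, Finset.card_product, Finset.card_erase_of_mem (Finset.mem_univ _),
      Finset.card_univ, Finset.card_univ, ← Nat.card_eq_fintype_card, ← Nat.card_eq_fintype_card,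
      Nat.cast_mul, Nat.cast_sub Nat.card_pos, Nat.cast_one]
  have hG : (Nat.card G : ℤ) ≠ 0 := Nat.cast_ne_zero.2 Nat.card_pos.ne'
  refine mul_left_cancel₀ hG ?_
  calc (Nat.card G : ℤ) * (e * ((Nat.card B : ℤ) - blockRank p B))
      = ∑ w ∈ T, e * Nat.card (cn (Subgroup.zpowers w.1)) := by
        rw [← Finset.mul_sum, ← hcount]; ring
    _ = ∑ w ∈ T, ((D.filter fun a => W a = w).card : ℤ) :=
        (Finset.sum_congr rfl hfib).symm
    _ = D.card := by
        rw [Finset.card_eq_sum_card_fiberwise (f := W) (t := T) fun a ha => hW a ha, Nat.cast_sum]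
    _ = _ := by rw [hdom]; ring

end Setting

end CfsgLib.Blocks.AbelianFree
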