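import Cfsg.Agent.Blocks.AbelianFree.Count
import Cfsg.Agent.Blocks.AbelianFrobenius.Coherent

/-!
# The two families of characters and the bounds on their numbers

With `m ≥ 2` inertial orbits the rows are `δ [χ = ζ i] + r χ`; the members `ζ i` are the exceptional
ones and the others number at most `e`.
-/

set_option autoImplicit false
open scoped MonoidAlgebra ComplexConjugate Classical
open Cfsg CfsgLib CfsgLib.Blocks CfsgLib.Blocks.HeightZero CfsgLib.Blocks.Contrib
open CfsgLib.Blocks.AbelianFrobenius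

namespace CfsgLib.Blocks.AbelianFree

universe u

variable {G : Type u} [Group G] [Fintype G] {p : ℕ} {M : Ideal AlgInt} [M.IsMaximal]

/-- The exceptional family `ζ`, its sign and the integers of the other characters. -/
structure IsFamily (p : ℕ) (B : Set (IrrCharacter G)) (P : Subgroup G)
    (f : MonoidAlgebra (kres M) G) (δ s : ℤ) (r : IrrCharacter G → ℤ)
    (ζ : Orb (aut P f) → IrrCharacter G) : Prop where
  sign : δ = 1 ∨ δ = -1
  inj : Function.Injective ζ
  mem : ∀ i, ζ i ∈ B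
  row : ∀ χ ∈ B, ∀ i, xrow p P f χ (Orb.rep (aut P f) i) = (if χ = ζ i then δ else 0) + r χ
  exc : ∀ i, r (ζ i) = δ * s
  ne_zero : ∀ χ ∈ B, χ ∉ Set.range ζ → r χ ≠ 0
  sum_sq : ∑ χ ∈ B.toFinite.toFinset.filter (fun χ => χ ∉ Set.range ζ), r χ ^ 2 =
    (Nat.card (aut P f) : ℤ) - 2 * s - (Nat.card (Orb (aut P f)) : ℤ) * s ^ 2
  reg_eq : ∀ i j, ∀ g : G, IsPRegular p g → (ζ i : G → ℂ) g = (ζ j : G → ℂ) g
  reg_sum : ∀ i, ∀ g : G, IsPRegular p g →
    ∑ χ ∈ B.toFinite.toFinset.filter (fun χ => χ ∉ Set.range ζ), (r χ : ℂ) * (χ : G → ℂ) g +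
      ((δ : ℂ) * (1 + (Nat.card (Orb (aut P f)) : ℂ) * s)) * (ζ i : G → ℂ) g = 0

namespace Setting

variable [Fact p.Prime] [CharP (kres M) p] {B : Set (IrrCharacter G)} {P : Subgroup G}
  {f : MonoidAlgebra (kres M) G}

theorem finite_orb (h : Setting p M B P f) : Finite (Orb (aut P f)) := by
  haveI := h.finite_linChar
  exact Quotient.finite _

/-- The orbits number `(|P| - 1) / e`. -/
theorem card_orb (h : Setting p M B P f) :
    Nat.card (Orb (aut P f)) * Nat.card (aut P f) + 1 = Nat.card P := by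
  haveI := h.isMulComm
  haveI := h.finite_linChar
  haveI := Fintype.ofFinite (P →* ℂˣ)
  have h1 := Nat.card_eq_of_bijective _ (twist_rep_bijective h.fpf)
  rw [Nat.card_prod] at h1
  rw [h1, Nat.card_eq_fintype_card, Fintype.card_subtype_compl, Fintype.card_subtype_eq,
    Nat.card_eq_fintype_card, card_linChar]
  exact Nat.sub_add_cancel Fintype.card_pos

/-- Two orbits at least give the families. -/
theorem exists_family (h : Setting p M B P f) (h2 : 2 ≤ Nat.card (Orb (aut P f))) :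
    ∃ δ s r ζ, IsFamily p B P f δ s r ζ := by
  haveI := h.finite_orb
  haveI := Fintype.ofFinite (Orb (aut P f))
  set A := aut P f with hA
  have hne2 : ∃ i j : Orb A, i ≠ j := by
    rw [Nat.card_eq_fintype_card] at h2
    exact Fintype.exists_pair_of_one_lt_card h2
  set T := B.toFinite.toFinset with hT
  have hTB : ∀ {χ}, χ ∈ T ↔ χ ∈ B := (Set.Finite.mem_toFinset _)
  set c : IrrCharacter G → Orb A → ℤ := fun χ i => xrow p P f χ (Orb.rep A i) with hc
  have hgram : ∀ i j, ∑ χ ∈ T, c χ i * c χ j = (if i = j then 1 else 0) + (Nat.card A : ℤ) :=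
    fun i j => h.sum_xrow_rep i j
  have hdeg : ∀ i j, ∑ χ ∈ T, (charDegree (χ : G → ℂ) : ℤ) * (c χ i - c χ j) = 0 := by
    intro i j
    have h0 : ∀ i, ∑ χ ∈ T, (charDegree (χ : G → ℂ) : ℤ) * c χ i = 0 := by
      intro i
      have h1 := h.sum_apply_mul_xrow (g := 1) h.isPRegular_one (Orb.rep A i)
      simp only [← Chars.coe_charDegree] at h1
      have h2 : ((∑ χ ∈ T, (charDegree (χ : G → ℂ) : ℤ) * c χ i : ℤ) : ℂ) = 0 := by
        push_cast
        rw [← h1]
        exact Finset.sum_congr rfl fun χ _ => mul_comm _ _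
      exact_mod_cast h2
    simp only [mul_sub, Finset.sum_sub_distrib, h0, sub_self]
  obtain ⟨δ, ζ, hδ, hinj, hζT, hfam⟩ := exists_signed_family T c
    (fun χ => (charDegree (χ : G → ℂ) : ℤ))
    (fun χ _ => Int.natCast_pos.2 (Chars.charDegree_pos χ)) hne2 hdeg fun i j k l => by
      simp only [sub_mul, mul_sub, Finset.sum_sub_distrib, hgram]
      ring
  obtain ⟨i₀, -⟩ := hne2
  set r : IrrCharacter G → ℤ := fun χ => c χ i₀ - if χ = ζ i₀ then δ else 0 with hr
  have hrow : ∀ χ ∈ T, ∀ i, c χ i = (if χ = ζ i then δ else 0) + r χ := by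
    intro χ hχ i
    have h1 := hfam χ hχ i i₀
    rw [mul_sub, mul_ite, mul_one, mul_zero, mul_ite, mul_one, mul_zero] at h1
    simp only [hr]
    linarith
  have hδ2 : δ * δ = 1 := by rcases hδ with rfl | rfl <;> norm_num
  have hgram' : ∀ i j, (if i = j then (1 : ℤ) else 0) + δ * r (ζ i) + δ * r (ζ j) +
      ∑ χ ∈ T, r χ ^ 2 = (if i = j then 1 else 0) + (Nat.card A : ℤ) := by
    intro i j
    have e := hgram i j
    rw [Finset.sum_congr rfl fun χ hχ => by rw [hrow χ hχ i, hrow χ hχ j]] at e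
    simp only [add_mul, mul_add, Finset.sum_add_distrib, ite_mul, zero_mul, mul_ite, mul_zero,
      Finset.sum_ite_eq', hζT, if_true, hinj.eq_iff] at e
    rw [← e]
    simp only [sq]
    by_cases hij : i = j
    · subst hij
      simp only [if_true, hδ2]
      ring
    · simp only [if_neg hij, if_neg (Ne.symm hij)]
      ring
  set s := δ * r (ζ i₀) with hs
  have hsi : ∀ i, δ * r (ζ i) = s := by
    intro i
    have h1 := hgram' i i
    have h2' := hgram' i₀ i₀
    simp only [if_true] at h1 h2'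
    omega
  have hexc : ∀ i, r (ζ i) = δ * s := fun i => by
    rw [← hsi i, ← mul_assoc, hδ2, one_mul]
  have hsplit : ∀ F : IrrCharacter G → ℂ, ∑ χ ∈ T, F χ =
      ∑ χ ∈ T.filter (fun χ => χ ∉ Set.range ζ), F χ + ∑ i, F (ζ i) := by
    intro F
    rw [← Finset.sum_filter_add_sum_filter_not T (fun χ => χ ∈ Set.range ζ), add_comm,
      show T.filter (fun χ => χ ∈ Set.range ζ) = Finset.univ.image ζ from ?_,
      Finset.sum_image fun a _ b _ e => hinj e]
    ext χ
    simp only [Finset.mem_filter, Set.mem_range, Finset.mem_image, Finset.mem_univ, true_and]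
    exact ⟨fun hh => hh.2, fun ⟨i, hi⟩ => ⟨hi ▸ hζT i, i, hi⟩⟩
  have hreg : ∀ i, ∀ g : G, IsPRegular p g →
      ∑ χ ∈ T, (r χ : ℂ) * (χ : G → ℂ) g + (δ : ℂ) * (ζ i : G → ℂ) g = 0 := by
    intro i g hg
    have h0 : ∑ χ ∈ T, (xrow p P f χ (Orb.rep A i) : ℂ) * (χ : G → ℂ) g = 0 :=
      h.sum_apply_mul_xrow hg (Orb.rep A i)
    rw [Finset.sum_congr (s₂ := T) rfl (g := fun χ => (r χ : ℂ) * (χ : G → ℂ) g +
        if χ = ζ i then (δ : ℂ) * (χ : G → ℂ) g else 0) fun χ hχ => ?_] at h0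
    · rwa [Finset.sum_add_distrib, Finset.sum_ite_eq', if_pos (hζT i)] at h0
    · show ((c χ i : ℤ) : ℂ) * _ = _
      rw [hrow χ hχ i]
      push_cast
      split_ifs <;> ring
  have heq : ∀ i j, ∀ g : G, IsPRegular p g → (ζ i : G → ℂ) g = (ζ j : G → ℂ) g := by
    intro i j g hg
    have h1 := (hreg i g hg).trans (hreg j g hg).symm
    refine mul_left_cancel₀ ?_ (add_left_cancel h1)
    rcases hδ with rfl | rfl <;> norm_num
  refine ⟨δ, s, r, ζ, hδ, hinj, fun i => hTB.1 (hζT i), fun χ hχ i => hrow χ (hTB.2 hχ) i, hexc,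
    fun χ hχ hnot h0 => ?_, ?_, heq, fun i g hg => ?_⟩
  · have hP : P ≠ ⊥ := fun hP => by
      have := h.card_orb
      rw [hP, Subgroup.card_bot] at this
      have h3 : 0 < Nat.card A := Nat.card_pos
      have h4 : Nat.card (Orb A) * Nat.card A = 0 := by
        simpa [hP] using h.card_orb
      rcases mul_eq_zero.1 h4 with h5 | h5 <;> omega
    obtain ⟨i, hi⟩ := h.exists_xrow_ne_zero hP hχ
    apply hi
    show c χ i = 0
    rw [hrow χ (hTB.2 hχ) i, if_neg (fun e => hnot ⟨i, e.symm⟩), h0, add_zero]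
  · have h1 := hgram' i₀ i₀
    simp only [if_true, hsi] at h1
    have hss := hsplit fun χ => ((r χ ^ 2 : ℤ) : ℂ)
    simp only [hexc, ← Int.cast_sum, Finset.sum_const, Finset.card_univ] at hss
    rw [← Nat.card_eq_fintype_card (α := Orb A)] at hss
    have hss' : ∑ χ ∈ T, r χ ^ 2 = ∑ χ ∈ T.filter (fun χ => χ ∉ Set.range ζ), r χ ^ 2 +
        Nat.card (Orb A) • (δ * s) ^ 2 := by
      rw [← Int.cast_inj (α := ℂ)]
      push_cast at hss ⊢
      exact hss
    rw [nsmul_eq_mul, mul_pow, sq δ, hδ2, one_mul] at hss'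
    have hgoal : ∑ χ ∈ T.filter (fun χ => χ ∉ Set.range ζ), r χ ^ 2 =
      (Nat.card A : ℤ) - 2 * s - (Nat.card (Orb A) : ℤ) * s ^ 2 := by linarith
    convert hgoal
  · have h1 := hreg i g hg
    rw [hsplit] at h1
    simp only [hexc, heq _ i g hg] at h1
    rw [Finset.sum_const, Finset.card_univ, nsmul_eq_mul, ← Nat.card_eq_fintype_card] at h1
    push_cast at h1
    have hgoal : ∑ χ ∈ T.filter (fun χ => χ ∉ Set.range ζ), (r χ : ℂ) * (χ : G → ℂ) g +
      ((δ : ℂ) * (1 + (Nat.card (Orb A) : ℂ) * s)) * (ζ i : G → ℂ) g = 0 := by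
      linear_combination h1
    convert hgoal

/-- The numbers of characters. -/
theorem natCard_eq_of_family (h : Setting p M B P f) {δ s : ℤ} {r : IrrCharacter G → ℤ}
    {ζ : Orb (aut P f) → IrrCharacter G} (hF : IsFamily p B P f δ s r ζ) :
    Nat.card B = (B.toFinite.toFinset.filter (fun χ => χ ∉ Set.range ζ)).card +
      Nat.card (Orb (aut P f)) := by
  haveI := h.finite_orb
  haveI := Fintype.ofFinite (Orb (aut P f))
  rw [Nat.card_coe_set_eq, Set.ncard_eq_toFinset_card B B.toFinite,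
    ← Finset.card_filter_add_card_filter_not (s := B.toFinite.toFinset)
      (fun χ => χ ∉ Set.range ζ)]
  refine congrArg₂ (· + ·) (by congr 2) ?_
  rw [Nat.card_eq_fintype_card, ← Finset.card_univ, ← Finset.card_image_of_injective _ hF.inj]
  congr 1
  ext χ
  simp only [Finset.mem_filter, Set.Finite.mem_toFinset, not_not, Set.mem_range, Finset.mem_image,
    Finset.mem_univ, true_and]
  exact ⟨fun hh => hh.2, fun ⟨i, hi⟩ => ⟨hi ▸ hF.mem i, i, hi⟩⟩

/-- `k - l = (|P| - 1) / e`. -/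
theorem natCard_eq_rank_add (h : Setting p M B P f) :
    Nat.card B = blockRank p B + Nat.card (Orb (aut P f)) := by
  have h1 := h.card_mul_sub
  have h2 : (Nat.card (Orb (aut P f)) : ℤ) * Nat.card (aut P f) + 1 = Nat.card P := by
    exact_mod_cast h.card_orb
  have hpos : (Nat.card (aut P f) : ℤ) ≠ 0 := Nat.cast_ne_zero.2 Nat.card_pos.ne'
  have h3 : (Nat.card B : ℤ) - blockRank p B = Nat.card (Orb (aut P f)) := by
    refine mul_left_cancel₀ hpos ?_
    linarith
  omega

theorem card_le_sum_sq {ι : Type*} {X : Finset ι} {r : ι → ℤ} (h : ∀ i ∈ X, r i ≠ 0) :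
    (X.card : ℤ) ≤ ∑ i ∈ X, r i ^ 2 := by
  simpa using X.card_nsmul_le_sum (fun i => r i ^ 2) 1 fun i hi => sq_pos_of_ne_zero (h i hi)

/-- The characters number at most `e + (|P| - 1) / e`. -/
theorem blockRank_le (h : Setting p M B P f) (hP : P ≠ ⊥) :
    blockRank p B ≤ Nat.card (aut P f) := by
  have hk := h.natCard_eq_rank_add
  rcases Nat.lt_or_ge (Nat.card (Orb (aut P f))) 2 with hm | hm
  · haveI := h.finite_orb
    have hm0 : Nat.card (Orb (aut P f)) ≠ 0 := by
      intro h0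
      have := h.card_orb
      rw [h0, zero_mul, zero_add] at this
      exact hP (Subgroup.eq_bot_of_card_eq _ this.symm)
    haveI : Subsingleton (Orb (aut P f)) := Finite.card_le_one_iff_subsingleton.1 (by omega)
    obtain ⟨⟨i⟩⟩ := (Nat.card_pos_iff.1 (Nat.pos_of_ne_zero hm0))
    have h1 := card_le_sum_sq (X := B.toFinite.toFinset)
      (r := fun χ => xrow p P f χ (Orb.rep (aut P f) i)) fun χ hχ => by
        obtain ⟨j, hj⟩ := h.exists_xrow_ne_zero hP ((Set.Finite.mem_toFinset _).1 hχ)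
        rwa [Subsingleton.elim i j]
    simp only [sq, h.sum_xrow_rep, if_true] at h1
    rw [← Set.ncard_eq_toFinset_card B B.toFinite, ← Nat.card_coe_set_eq] at h1
    omega
  · obtain ⟨δ, s, r, ζ, hF⟩ := h.exists_family hm
    have h1 := h.natCard_eq_of_family hF
    have h2 : ((B.toFinite.toFinset.filter (fun χ => χ ∉ Set.range ζ)).card : ℤ) ≤
        (Nat.card (aut P f) : ℤ) - 2 * s - (Nat.card (Orb (aut P f)) : ℤ) * s ^ 2 := by
      rw [← hF.sum_sq]
      exact card_le_sum_sq fun χ hχ => by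
        rw [Finset.mem_filter, Set.Finite.mem_toFinset] at hχ
        exact hF.ne_zero χ hχ.1 hχ.2
    have h3 : 0 ≤ 2 * s + (Nat.card (Orb (aut P f)) : ℤ) * s ^ 2 := by
      have hm' : (2 : ℤ) ≤ Nat.card (Orb (aut P f)) := by exact_mod_cast hm
      have h4 : 0 ≤ s * (s + 1) := by
        rcases le_or_gt 0 s with hs | hs <;> nlinarith
      nlinarith [sq_nonneg s]
    omega

end Setting

end CfsgLib.Blocks.AbelianFree
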