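import Cfsg.Agent.Blocks.AbelianFrobenius.Dual

/-!
# Generalized characters of an abelian group off a subgroup

A generalized character `Φ` whose squared norm off `R` is positive and at most `|P| - |R|` is plus or
minus a linear character there; if on `R` it is `K` times a character then that character restricts,
and `K` is congruent to the sign modulo the index.
-/

set_option autoImplicit false
open Cfsg CfsgLib
open scoped ComplexConjugate Classical
open CfsgLib.Blocks.AbelianFrobenius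

namespace CfsgLib.Blocks.AbelianFree

universe u

variable {P : Type u} [Group P] [IsMulCommutative P]

/-- The generalized characters. -/
noncomputable def genChar (P : Type u) [Group P] [Finite P] : AddSubgroup (P → ℂ) :=
  AddSubgroup.closure (Set.range fun ψ : P →* ℂˣ => fun v : P => (ψ v : ℂ))

variable [Finite P]

omit [IsMulCommutative P] in
theorem linChar_mem_genChar (ψ : P →* ℂˣ) : (fun v : P => (ψ v : ℂ)) ∈ genChar P :=
  AddSubgroup.subset_closure ⟨ψ, rfl⟩

omit [IsMulCommutative P] in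
/-- An integral combination of linear characters. -/
theorem exists_coeff [Fintype (P →* ℂˣ)] {Φ : P → ℂ} (h : Φ ∈ genChar P) :
    ∃ m : (P →* ℂˣ) → ℤ, ∀ v, Φ v = ∑ ψ, (m ψ : ℂ) * (ψ v : ℂ) := by
  induction h using AddSubgroup.closure_induction with
  | mem x hx =>
    obtain ⟨ψ, rfl⟩ := hx
    exact ⟨fun φ => if φ = ψ then 1 else 0, fun v => by simp⟩
  | zero => exact ⟨0, fun v => by simp⟩
  | add x y _ _ hx hy =>
    obtain ⟨m, hm⟩ := hx
    obtain ⟨n, hn⟩ := hy
    exact ⟨m + n, fun v => by simp [hm, hn, add_mul, Finset.sum_add_distrib]⟩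
  | neg x _ hx =>
    obtain ⟨m, hm⟩ := hx
    exact ⟨-m, fun v => by simp [hm]⟩

omit [IsMulCommutative P] in
theorem conj_linChar (ψ : P →* ℂˣ) (v : P) : conj (ψ v : ℂ) = (ψ v⁻¹ : ℂ) := by
  rw [map_inv, Units.val_inv_eq_inv_val]
  refine (Complex.inv_eq_conj ?_).symm
  have h : (ψ v : ℂ) ^ orderOf v = 1 := by
    rw [← Units.val_pow_eq_pow_val, ← map_pow, pow_orderOf_eq_one, map_one, Units.val_one]
  have h2 := congrArg norm h
  rw [norm_pow, norm_one] at h2
  exact (pow_eq_one_iff_of_nonneg (norm_nonneg _) (orderOf_pos v).ne').1 h2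

theorem exists_separating {R : Subgroup P} {v : P} (hv : v ∉ R) :
    ∃ μ : P →* ℂˣ, (∀ r ∈ R, μ r = 1) ∧ μ v ≠ 1 := by
  haveI : R.Normal := ⟨fun n hn g => by rwa [mul_comm' g n, mul_inv_cancel_right]⟩
  haveI : IsMulCommutative (P ⧸ R) := ⟨⟨by
    rintro ⟨a⟩ ⟨b⟩
    exact congrArg QuotientGroup.mk (mul_comm' a b)⟩⟩
  obtain ⟨l, hl⟩ := Chars.exists_linChar_ne_one (G := P ⧸ R) (g := (v : P ⧸ R)) (by
    rw [commutator_eq_bot (G := P ⧸ R), Subgroup.mem_bot, QuotientGroup.eq_one_iff]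
    exact hv)
  refine ⟨l.comp (QuotientGroup.mk' R), fun r hr => ?_, hl⟩
  rw [MonoidHom.comp_apply, QuotientGroup.mk'_apply, (QuotientGroup.eq_one_iff r).2 hr, map_one]

/-- Agreement on a subgroup. -/
def Agree (R : Subgroup P) (ψ φ : P →* ℂˣ) : Prop := ∀ r ∈ R, ψ r = φ r

/-- Sum over a subgroup of a quotient of linear characters. -/
theorem sum_subgroup_mul [Fintype P] (R : Subgroup P) (ψ φ : P →* ℂˣ) :
    ∑ r : R, (ψ r : ℂ) * (φ (r : P)⁻¹ : ℂ) = if Agree R ψ φ then (Nat.card R : ℂ) else 0 := by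
  have h := sum_mul_inv (P := R) (ψ.comp R.subtype) (φ.comp R.subtype)
  simp only [MonoidHom.comp_apply, Subgroup.coe_subtype, Subgroup.coe_inv] at h
  rw [h, Nat.card_eq_fintype_card]
  refine if_congr ⟨fun e r hr => DFunLike.congr_fun e ⟨r, hr⟩, fun e => ?_⟩ rfl rfl
  exact MonoidHom.ext fun r => e r r.2

variable [Fintype P] [Fintype (P →* ℂˣ)]

theorem sum_apply_eq_zero {v : P} (hv : v ≠ 1) : ∑ ψ : P →* ℂˣ, (ψ v : ℂ) = 0 := by
  obtain ⟨l, -, hl⟩ := exists_separating (R := (⊥ : Subgroup P)) (by simpa using hv)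
  have h := Equiv.sum_comp (Equiv.mulLeft l) fun ψ : P →* ℂˣ => (ψ v : ℂ)
  simp only [Equiv.coe_mulLeft, MonoidHom.mul_apply, Units.val_mul, ← Finset.mul_sum] at h
  have h' : ((l v : ℂ) - 1) * ∑ ψ : P →* ℂˣ, (ψ v : ℂ) = 0 := by
    rw [sub_mul, one_mul, h, sub_self]
  exact (mul_eq_zero.1 h').resolve_left (sub_ne_zero.2 fun e => hl (Units.ext e))

theorem card_linChar : Fintype.card (P →* ℂˣ) = Fintype.card P := by
  rw [← Nat.card_eq_fintype_card, Chars.card_monoidHom_units, commutator_eq_bot (G := P),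
    Subgroup.index_bot, Nat.card_eq_fintype_card]

/-- The number of linear characters agreeing with a given one on `R`. -/
theorem card_agree (R : Subgroup P) (ψ : P →* ℂˣ) :
    (Finset.univ.filter (Agree R ψ)).card * Nat.card R = Fintype.card P := by
  have h : ∑ φ : P →* ℂˣ, ∑ r : R, (ψ r : ℂ) * (φ (r : P)⁻¹ : ℂ) =
      ((Finset.univ.filter (Agree R ψ)).card * Nat.card R : ℕ) := by
    rw [Finset.sum_congr rfl fun φ _ => sum_subgroup_mul R ψ φ, ← Finset.sum_filter,
      Finset.sum_const, nsmul_eq_mul, Nat.cast_mul]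
  rw [Finset.sum_comm, Finset.sum_eq_single (1 : R)] at h
  · simp only [OneMemClass.coe_one, map_one, Units.val_one, inv_one, one_mul, Finset.sum_const,
      Finset.card_univ, nsmul_eq_mul, mul_one, card_linChar] at h
    exact_mod_cast h.symm
  · intro r _ hr
    rw [← Finset.mul_sum, sum_apply_eq_zero (fun e => hr (Subtype.ext (inv_eq_one.1 e))), mul_zero]
  · simp

/-- A function constant on the classes of agreement on `R` gives zero off `R`. -/
theorem sum_eq_zero_of_agree {R : Subgroup P} {m : (P →* ℂˣ) → ℤ}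
    (hm : ∀ ψ φ, Agree R ψ φ → m ψ = m φ) {v : P} (hv : v ∉ R) :
    ∑ ψ : P →* ℂˣ, (m ψ : ℂ) * (ψ v : ℂ) = 0 := by
  obtain ⟨μ, hμ, hμv⟩ := exists_separating hv
  have h := Equiv.sum_comp (Equiv.mulLeft μ) fun ψ : P →* ℂˣ => (m ψ : ℂ) * (ψ v : ℂ)
  simp only [Equiv.coe_mulLeft] at h
  rw [Finset.sum_congr rfl fun ψ _ => show (m (μ * ψ) : ℂ) * ((μ * ψ) v : ℂ) =
      (μ v : ℂ) * ((m ψ : ℂ) * (ψ v : ℂ)) by
    rw [hm (μ * ψ) ψ fun r hr => by rw [MonoidHom.mul_apply, hμ r hr, one_mul],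
      MonoidHom.mul_apply, Units.val_mul]
    ring, ← Finset.mul_sum] at h
  have h' : ((μ v : ℂ) - 1) * ∑ ψ : P →* ℂˣ, (m ψ : ℂ) * (ψ v : ℂ) = 0 := by
    rw [sub_mul, one_mul, h, sub_self]
  exact (mul_eq_zero.1 h').resolve_left (sub_ne_zero.2 fun e => hμv (Units.ext e))

/-- The squared norm off `R`. -/
theorem two_mul_norm_off (R : Subgroup P) {Φ : P → ℂ} (m : (P →* ℂˣ) → ℤ)
    (hΦ : ∀ v, Φ v = ∑ ψ, (m ψ : ℂ) * (ψ v : ℂ)) :
    2 * ∑ v ∈ Finset.univ.filter (fun v : P => v ∉ R), ‖Φ v‖ ^ 2 =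
      (Nat.card R : ℝ) *
        ((∑ ψ, ∑ φ ∈ Finset.univ.filter (Agree R ψ), (m ψ - m φ) ^ 2 : ℤ) : ℝ) := by
  apply Complex.ofReal_injective
  push_cast
  have hsq : ∀ v, (((‖Φ v‖ : ℝ) : ℂ)) ^ 2 =
      ∑ ψ, ∑ φ, (m ψ : ℂ) * m φ * ((ψ v : ℂ) * (φ v⁻¹ : ℂ)) := by
    intro v
    rw [← Complex.mul_conj', hΦ, map_sum, Finset.sum_mul_sum]
    refine Finset.sum_congr rfl fun ψ _ => Finset.sum_congr rfl fun φ _ => ?_
    rw [map_mul, map_intCast, conj_linChar]
    ring
  have hall : ∑ v, (((‖Φ v‖ : ℝ) : ℂ)) ^ 2 =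
      ∑ ψ, (m ψ : ℂ) ^ 2 * (Fintype.card P : ℂ) := by
    simp only [hsq]
    rw [Finset.sum_comm]
    refine Finset.sum_congr rfl fun ψ _ => ?_
    rw [Finset.sum_comm, Finset.sum_congr rfl fun φ _ => by rw [← Finset.mul_sum, sum_mul_inv],
      Finset.sum_eq_single ψ (fun φ _ h => by rw [if_neg (Ne.symm h), mul_zero])
        (fun h => absurd (Finset.mem_univ _) h), if_pos rfl]
    ring
  have hR : ∑ v ∈ Finset.univ.filter (fun v : P => v ∈ R), (((‖Φ v‖ : ℝ) : ℂ)) ^ 2 =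
      (Nat.card R : ℂ) * ∑ ψ, ∑ φ ∈ Finset.univ.filter (Agree R ψ), (m ψ : ℂ) * m φ := by
    rw [Finset.sum_subtype _ (p := fun v : P => v ∈ R) (by simp)]
    simp only [hsq]
    rw [Finset.sum_comm, Finset.mul_sum]
    refine Finset.sum_congr rfl fun ψ _ => ?_
    rw [Finset.sum_comm, Finset.mul_sum, Finset.sum_filter]
    refine Finset.sum_congr rfl fun φ _ => ?_
    rw [← Finset.mul_sum, sum_subgroup_mul R ψ φ]
    split_ifs <;> ring
  have hsplit := Finset.sum_filter_add_sum_filter_not Finset.univ (fun v : P => v ∈ R)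
    (fun v => (((‖Φ v‖ : ℝ) : ℂ)) ^ 2)
  rw [hall, hR] at hsplit
  have hsym : ∑ ψ, ∑ φ ∈ Finset.univ.filter (Agree R ψ), (m φ : ℂ) ^ 2 =
      ∑ ψ, ∑ _φ ∈ Finset.univ.filter (Agree R ψ), (m ψ : ℂ) ^ 2 := by
    simp only [Finset.sum_filter]
    rw [Finset.sum_comm]
    exact Finset.sum_congr rfl fun ψ _ => Finset.sum_congr rfl fun φ _ =>
      if_congr ⟨fun h r hr => (h r hr).symm, fun h r hr => (h r hr).symm⟩ rfl rfl
  have hcl : (Nat.card R : ℂ) * ∑ ψ, ∑ _φ ∈ Finset.univ.filter (Agree R ψ), (m ψ : ℂ) ^ 2 =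
      ∑ ψ, (m ψ : ℂ) ^ 2 * (Fintype.card P : ℂ) := by
    rw [Finset.mul_sum]
    refine Finset.sum_congr rfl fun ψ _ => ?_
    rw [Finset.sum_const, nsmul_eq_mul, ← card_agree R ψ]
    push_cast
    ring
  have hexp : ∑ ψ, ∑ φ ∈ Finset.univ.filter (Agree R ψ), ((m ψ : ℂ) - m φ) ^ 2 =
      ∑ ψ, ∑ _φ ∈ Finset.univ.filter (Agree R ψ), (m ψ : ℂ) ^ 2 +
        ∑ ψ, ∑ φ ∈ Finset.univ.filter (Agree R ψ), (m φ : ℂ) ^ 2 -
        2 * ∑ ψ, ∑ φ ∈ Finset.univ.filter (Agree R ψ), (m ψ : ℂ) * m φ := by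
    simp only [Finset.mul_sum, ← Finset.sum_add_distrib, ← Finset.sum_sub_distrib]
    exact Finset.sum_congr rfl fun ψ _ => Finset.sum_congr rfl fun φ _ => by ring
  rw [hexp, hsym]
  linear_combination 2 * hsplit - 2 * hcl

/-- Off `R` either the norm is large, or the values are those of a signed linear character. -/
theorem norm_off_cases (R : Subgroup P) {Φ : P → ℂ} (hΦ : Φ ∈ genChar P)
    (h : ∃ v, v ∉ R ∧ Φ v ≠ 0) :
    (Fintype.card P : ℝ) - Nat.card R ≤
        ∑ v ∈ Finset.univ.filter (fun v : P => v ∉ R), ‖Φ v‖ ^ 2 ∧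
      (∑ v ∈ Finset.univ.filter (fun v : P => v ∉ R), ‖Φ v‖ ^ 2 ≤
          (Fintype.card P : ℝ) - Nat.card R →
        ∃ δ : ℤ, (δ = 1 ∨ δ = -1) ∧ ∃ ψ : P →* ℂˣ, ∀ v, v ∉ R → Φ v = (δ : ℂ) * (ψ v : ℂ)) := by
  obtain ⟨m, hm⟩ := exists_coeff hΦ
  obtain ⟨a, b, hab, hne⟩ : ∃ a b, Agree R a b ∧ m a ≠ m b := by
    by_contra hcon
    push Not at hcon
    obtain ⟨v, hv, hv0⟩ := h
    exact hv0 ((hm v).trans (sum_eq_zero_of_agree hcon hv))
  have hN := two_mul_norm_off R m hm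
  set q := (Finset.univ.filter (Agree R a)).card with hq
  have hqR : q * Nat.card R = Fintype.card P := card_agree R a
  have hsymm : ∀ {ψ φ}, Agree R ψ φ → Agree R φ ψ := fun h r hr => (h r hr).symm
  have htrans : ∀ {ψ φ χ}, Agree R ψ φ → Agree R φ χ → Agree R ψ χ :=
    fun h h' r hr => (h r hr).trans (h' r hr)
  set E : Finset ((P →* ℂˣ) × (P →* ℂˣ)) := Finset.univ.filter (fun x => Agree R x.1 x.2) with hE
  set D := fun x : (P →* ℂˣ) × (P →* ℂˣ) => (m x.1 - m x.2) ^ 2 with hD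
  have hsum : ∑ ψ, ∑ φ ∈ Finset.univ.filter (Agree R ψ), (m ψ - m φ) ^ 2 = ∑ x ∈ E, D x := by
    rw [hE, Finset.sum_filter, Fintype.sum_prod_type]
    simp only [Finset.sum_filter, hD]
  set A := ((Finset.univ.filter (Agree R a)).erase a).erase b with hA
  have habne : a ≠ b := fun e => hne (by rw [e])
  have hbmem : b ∈ (Finset.univ.filter (Agree R a)).erase a := by simp [habne.symm, hab]
  have hAcard : A.card + 2 = q := by
    rw [hA, Finset.card_erase_of_mem hbmem,
      Finset.card_erase_of_mem (by simp [Agree] : a ∈ Finset.univ.filter (Agree R a)), ← hq]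
    have h1 := Finset.card_pos.2 ⟨b, hbmem⟩
    rw [Finset.card_erase_of_mem (by simp [Agree] : a ∈ Finset.univ.filter (Agree R a)), ← hq] at h1
    omega
  set S : Finset ((P →* ℂˣ) × (P →* ℂˣ)) :=
    {(a, b), (b, a)} ∪ ((A.image fun k => (a, k)) ∪ (A.image fun k => (k, a)) ∪
      ((A.image fun k => (b, k)) ∪ (A.image fun k => (k, b)))) with hS
  have hAmem : ∀ k ∈ A, k ≠ a ∧ k ≠ b ∧ Agree R a k := fun k hk => by
    simp only [hA, Finset.mem_erase, Finset.mem_filter, Finset.mem_univ, true_and] at hk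
    exact ⟨hk.2.1, hk.1, hk.2.2⟩
  have hSE : S ⊆ E := by
    intro x hx
    simp only [hS, Finset.mem_union, Finset.mem_insert, Finset.mem_singleton, Finset.mem_image] at hx
    simp only [hE, Finset.mem_filter, Finset.mem_univ, true_and]
    rcases hx with (rfl | rfl) | (⟨k, hk, rfl⟩ | ⟨k, hk, rfl⟩) | (⟨k, hk, rfl⟩ | ⟨k, hk, rfl⟩)
    · exact hab
    · exact hsymm hab
    · exact (hAmem k hk).2.2
    · exact hsymm (hAmem k hk).2.2
    · exact htrans (hsymm hab) (hAmem k hk).2.2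
    · exact htrans (hsymm (hAmem k hk).2.2) hab
  have hSsum : ∑ x ∈ S, D x =
      2 * (m a - m b) ^ 2 + 2 * ∑ k ∈ A, ((m a - m k) ^ 2 + (m b - m k) ^ 2) := by
    rw [hS, Finset.sum_union, Finset.sum_union, Finset.sum_union, Finset.sum_union,
      Finset.sum_pair, Finset.sum_image, Finset.sum_image, Finset.sum_image, Finset.sum_image]
    · simp only [hD]
      rw [Finset.sum_add_distrib, Finset.sum_congr rfl fun k _ => sub_sq_comm (m k) (m a),
        Finset.sum_congr (f := fun k => (m k - m b) ^ 2) rfl fun k _ => sub_sq_comm (m k) (m b),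
        sub_sq_comm (m b) (m a)]
      ring
    · exact fun x _ y _ h => congrArg Prod.fst h
    · exact fun x _ y _ h => congrArg Prod.snd h
    · exact fun x _ y _ h => congrArg Prod.fst h
    · exact fun x _ y _ h => congrArg Prod.snd h
    · exact fun e => habne (congrArg Prod.fst e)
    all_goals
      rw [Finset.disjoint_left]
      intro x hx hx'
      simp only [Finset.mem_union, Finset.mem_insert, Finset.mem_singleton, Finset.mem_image] at hx hx'
    · rcases hx with ⟨k, hk, rfl⟩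
      obtain ⟨l, hl, e⟩ := hx'
      exact (hAmem k hk).2.1 (congrArg Prod.snd e).symm
    · rcases hx with ⟨k, hk, rfl⟩
      obtain ⟨l, hl, e⟩ := hx'
      exact (hAmem k hk).1 (congrArg Prod.snd e).symm
    · rcases hx with ⟨k, hk, rfl⟩ | ⟨k, hk, rfl⟩ <;> rcases hx' with ⟨l, hl, e⟩ | ⟨l, hl, e⟩
      · exact habne (congrArg Prod.fst e).symm
      · exact (hAmem l hl).1 (congrArg Prod.fst e)
      · exact (hAmem k hk).2.1 (congrArg Prod.fst e).symm
      · exact habne (congrArg Prod.snd e).symm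
    · rcases hx with rfl | rfl <;>
        rcases hx' with (⟨l, hl, e⟩ | ⟨l, hl, e⟩) | (⟨l, hl, e⟩ | ⟨l, hl, e⟩)
      · exact (hAmem l hl).2.1 (congrArg Prod.snd e)
      · exact (hAmem l hl).1 (congrArg Prod.fst e)
      · exact habne (congrArg Prod.fst e).symm
      · exact (hAmem l hl).1 (congrArg Prod.fst e)
      · exact habne (congrArg Prod.fst e)
      · exact (hAmem l hl).2.1 (congrArg Prod.fst e)
      · exact (hAmem l hl).1 (congrArg Prod.snd e)
      · exact (hAmem l hl).2.1 (congrArg Prod.fst e)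
  have hone : ∀ k ∈ A, 1 ≤ (m a - m k) ^ 2 + (m b - m k) ^ 2 := fun k _ => by
    rcases eq_or_ne (m a) (m k) with e | e
    · have : m b - m k ≠ 0 := fun h => hne (by linarith)
      nlinarith [sq_nonneg (m a - m k), sq_pos_of_ne_zero this]
    · nlinarith [sq_nonneg (m b - m k), sq_pos_of_ne_zero (sub_ne_zero.2 e)]
  have hab1 : 1 ≤ (m a - m b) ^ 2 := sq_pos_of_ne_zero (sub_ne_zero.2 hne)
  have hAsum : (A.card : ℤ) ≤ ∑ k ∈ A, ((m a - m k) ^ 2 + (m b - m k) ^ 2) := by
    simpa using A.card_nsmul_le_sum _ 1 hone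
  have hSle : ∑ x ∈ S, D x ≤ ∑ x ∈ E, D x :=
    Finset.sum_le_sum_of_subset_of_nonneg hSE fun x _ _ => sq_nonneg _
  have hlow : 2 * ((q : ℤ) - 1) ≤ ∑ x ∈ E, D x := by
    rw [hSsum] at hSle
    have : (A.card : ℤ) + 2 = q := by exact_mod_cast hAcard
    omega
  rw [hsum] at hN
  have hcardR : (0 : ℝ) < Nat.card R := Nat.cast_pos.2 Nat.card_pos
  have hqR' : (q : ℝ) * Nat.card R = Fintype.card P := by exact_mod_cast hqR
  refine ⟨?_, fun hle => ?_⟩
  · have h1 : ((2 * ((q : ℤ) - 1) : ℤ) : ℝ) ≤ ((∑ x ∈ E, D x : ℤ) : ℝ) := by exact_mod_cast hlow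
    have h2 := mul_le_mul_of_nonneg_left h1 hcardR.le
    push_cast at h2 hN
    nlinarith [h2, hN, hqR']
  · have hup : ∑ x ∈ E, D x ≤ 2 * ((q : ℤ) - 1) := by
      have h1 : ((∑ x ∈ E, D x : ℤ) : ℝ) ≤ ((2 * ((q : ℤ) - 1) : ℤ) : ℝ) := by
        refine le_of_mul_le_mul_left ?_ hcardR
        push_cast at hN ⊢
        nlinarith [hle, hN, hqR']
      exact_mod_cast h1
    have hqA : (A.card : ℤ) + 2 = q := by exact_mod_cast hAcard
    rw [hSsum] at hSle
    have hab2 : (m a - m b) ^ 2 = 1 := by omega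
    have hAeq : ∀ k ∈ A, (m a - m k) ^ 2 + (m b - m k) ^ 2 = 1 := by
      intro k hk
      refine le_antisymm ?_ (hone k hk)
      have h2 := Finset.add_sum_erase A (fun k => (m a - m k) ^ 2 + (m b - m k) ^ 2) hk
      have h3 : ((A.erase k).card : ℤ) ≤ ∑ k ∈ A.erase k, ((m a - m k) ^ 2 + (m b - m k) ^ 2) := by
        simpa using (A.erase k).card_nsmul_le_sum _ 1 fun j hj => hone j (Finset.mem_of_mem_erase hj)
      have h4 := Finset.card_erase_add_one hk
      omega
    have hrest : ∀ x ∈ E, x ∉ S → D x = 0 := by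
      intro x hx hxS
      have h1 : ∑ y ∈ E \ S, D y ≤ 0 := by
        have := Finset.sum_sdiff (f := D) hSE
        rw [hSsum] at this
        omega
      exact le_antisymm (le_trans (Finset.single_le_sum (f := D) (fun y _ => sq_nonneg _)
        (Finset.mem_sdiff.2 ⟨hx, hxS⟩)) h1) (sq_nonneg _)
    -- the odd one out
    have hD0 : ∀ {x y}, Agree R x y → ¬ Agree R a x → m x = m y := by
      intro x y hxy hax
      have h0 := hrest (x, y) (by simp [hE, hxy]) (fun hmem => hax ?_)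
      · exact sub_eq_zero.1 (pow_eq_zero_iff two_ne_zero |>.1 h0)
      · simp only [hS, Finset.mem_union, Finset.mem_insert, Finset.mem_singleton,
          Finset.mem_image] at hmem
        rcases hmem with (e | e) | (⟨k, hk, e⟩ | ⟨k, hk, e⟩) | (⟨k, hk, e⟩ | ⟨k, hk, e⟩) <;>
          obtain ⟨rfl, rfl⟩ := Prod.ext_iff.1 e
        · exact fun r _ => rfl
        · exact hab
        · exact fun r _ => rfl
        · exact (hAmem k hk).2.2
        · exact hab
        · exact (hAmem k hk).2.2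
    have hval : ∀ k ∈ A, m k = m a ∨ m k = m b := by
      intro k hk
      have := hAeq k hk
      by_contra hcon
      push Not at hcon
      have h1 := sq_pos_of_ne_zero (sub_ne_zero.2 (Ne.symm hcon.1))
      have h2 := sq_pos_of_ne_zero (sub_ne_zero.2 (Ne.symm hcon.2))
      omega
    have hAsame : ∀ k ∈ A, ∀ l ∈ A, m k = m l := by
      intro k hk l hl
      have h0 := hrest (k, l) (by
        simp [hE, htrans (hsymm (hAmem k hk).2.2) (hAmem l hl).2.2]) (by
        simp only [hS, Finset.mem_union, Finset.mem_insert, Finset.mem_singleton, Finset.mem_image,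
          Prod.mk.injEq]
        rintro ((⟨e, -⟩ | ⟨e, -⟩) | (⟨j, -, e, -⟩ | ⟨j, -, -, e⟩) | (⟨j, -, e, -⟩ | ⟨j, -, -, e⟩))
        · exact (hAmem k hk).1 e
        · exact (hAmem k hk).2.1 e
        · exact (hAmem k hk).1 e.symm
        · exact (hAmem l hl).1 e.symm
        · exact (hAmem k hk).2.1 e.symm
        · exact (hAmem l hl).2.1 e.symm)
      exact sub_eq_zero.1 (pow_eq_zero_iff two_ne_zero |>.1 h0)
    obtain ⟨ψ₀, c, hψ₀, hclass⟩ : ∃ ψ₀ c, Agree R a ψ₀ ∧
        (∀ k, Agree R a k → k ≠ ψ₀ → m k = c) ∧ (m ψ₀ - c) ^ 2 = 1 := by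
      have split : ∀ k, Agree R a k → k = a ∨ k = b ∨ k ∈ A := fun k hk => by
        by_cases h1 : k = a
        · exact Or.inl h1
        by_cases h2 : k = b
        · exact Or.inr (Or.inl h2)
        exact Or.inr (Or.inr (by simp [hA, h1, h2, hk]))
      by_cases hall : ∀ k ∈ A, m k = m b
      · refine ⟨a, m b, fun r _ => rfl, fun k hk hka => ?_, hab2⟩
        rcases split k hk with h1 | h1 | h1
        · exact absurd h1 hka
        · rw [h1]
        · exact hall k h1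
      · push Not at hall
        obtain ⟨l, hl, hlb⟩ := hall
        refine ⟨b, m a, hab, fun k hk hkb => ?_, by rw [sub_sq_comm]; exact hab2⟩
        rcases split k hk with h1 | h1 | h1
        · rw [h1]
        · exact absurd h1 hkb
        · rw [hAsame k h1 l hl]
          exact (hval l hl).resolve_right hlb
    obtain ⟨hclass, hc1⟩ := hclass
    have hδ : m ψ₀ - c = 1 ∨ m ψ₀ - c = -1 := by
      have : (m ψ₀ - c) ^ 2 = (1 : ℤ) ^ 2 := by rw [hc1, one_pow]
      simpa using sq_eq_sq_iff_eq_or_eq_neg.1 this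
    refine ⟨m ψ₀ - c, hδ, ψ₀, fun v hv => ?_⟩
    have h0 := sum_eq_zero_of_agree (R := R)
      (m := fun k => m k - (m ψ₀ - c) * if k = ψ₀ then 1 else 0) ?_ hv
    · simp only [Int.cast_sub, Int.cast_mul, Int.cast_ite, Int.cast_one, Int.cast_zero, sub_mul,
        mul_ite, mul_one, mul_zero, ite_mul, zero_mul, Finset.sum_sub_distrib, Finset.sum_ite_eq',
        Finset.mem_univ, if_true, ← hm, sub_eq_zero] at h0
      push_cast
      linear_combination h0
    · intro x y hxy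
      by_cases hax : Agree R a x
      · have hay := htrans hax hxy
        by_cases h1 : x = ψ₀ <;> by_cases h2 : y = ψ₀
        · rw [h1, h2]
        · simp [h1, h2, hclass y hay h2]
        · simp [h1, h2, hclass x hax h1]
        · simp [h1, h2, hclass x hax h1, hclass y hay h2]
      · have hay : ¬ Agree R a y := fun h => hax (htrans h (hsymm hxy))
        have h1 : x ≠ ψ₀ := fun e => hax (e ▸ hψ₀)
        have h2 : y ≠ ψ₀ := fun e => hay (e ▸ hψ₀)
        simp [h1, h2, hD0 hxy hax]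

/-- If `Φ` is a signed character off `R` and `K` times a character on `R`, the two agree on `R`. -/
theorem agree_of_off {R : Subgroup P} (hR : R ≠ ⊤) {Φ : P → ℂ} (hΦ : Φ ∈ genChar P) {δ : ℤ}
    (hδ : δ = 1 ∨ δ = -1) {ψ : P →* ℂˣ} (hoff : ∀ v, v ∉ R → Φ v = (δ : ℂ) * (ψ v : ℂ))
    {lam : R →* ℂˣ} {K : ℂ} (hon : ∀ r : R, Φ r = K * (lam r : ℂ)) :
    (∀ r : R, lam r = ψ r) ∧ ∃ n : ℤ, K = (δ : ℂ) + (R.index : ℂ) * n := by
  obtain ⟨m, hm⟩ := exists_coeff hΦ
  have hinner : ∑ v, Φ v * (ψ v⁻¹ : ℂ) = (Fintype.card P : ℂ) * m ψ := by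
    simp only [hm, Finset.sum_mul, mul_assoc]
    rw [Finset.sum_comm, Finset.sum_eq_single ψ]
    · rw [← Finset.mul_sum, sum_mul_inv, if_pos rfl, mul_comm]
    · intro φ _ hφ
      rw [← Finset.mul_sum, sum_mul_inv, if_neg hφ, mul_zero]
    · simp
  have hcard : Fintype.card P = Nat.card R * R.index := by
    rw [R.card_mul_index, Nat.card_eq_fintype_card]
  rw [← Finset.sum_filter_add_sum_filter_not Finset.univ (fun v : P => v ∈ R)] at hinner
  have hoffsum : ∑ v ∈ Finset.univ.filter (fun v : P => ¬ v ∈ R), Φ v * (ψ v⁻¹ : ℂ) =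
      (δ : ℂ) * ((Fintype.card P : ℂ) - Nat.card R) := by
    rw [Finset.sum_congr rfl fun v hv => show Φ v * (ψ v⁻¹ : ℂ) = (δ : ℂ) by
      rw [hoff v (Finset.mem_filter.1 hv).2, mul_assoc, ← Units.val_mul, ← map_mul, mul_inv_cancel,
        map_one, Units.val_one, mul_one], Finset.sum_const, nsmul_eq_mul, mul_comm]
    congr 1
    have h := Finset.card_filter_add_card_filter_not (s := (Finset.univ : Finset P))
      (fun v => v ∈ R)
    rw [← Fintype.card_subtype, Finset.card_univ] at h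
    rw [Nat.card_eq_fintype_card, eq_sub_iff_add_eq, ← Nat.cast_add, Nat.cast_inj]
    rw [← h, add_comm]
  have honsum : ∑ v ∈ Finset.univ.filter (fun v : P => v ∈ R), Φ v * (ψ v⁻¹ : ℂ) =
      K * if lam = ψ.comp R.subtype then (Nat.card R : ℂ) else 0 := by
    rw [Finset.sum_subtype _ (p := fun v : P => v ∈ R) (by simp), Nat.card_eq_fintype_card,
      ← sum_mul_inv lam (ψ.comp R.subtype), Finset.mul_sum]
    exact Finset.sum_congr rfl fun r _ => by rw [hon]; simp [mul_assoc]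
  rw [honsum, hoffsum, hcard] at hinner
  push_cast at hinner
  have hRc : (Nat.card R : ℂ) ≠ 0 := Nat.cast_ne_zero.2 Nat.card_pos.ne'
  have hagree : lam = ψ.comp R.subtype := by
    by_contra hne
    rw [if_neg hne, mul_zero, zero_add] at hinner
    have hi : (δ : ℂ) * ((R.index : ℂ) - 1) = (R.index : ℂ) * m ψ := by
      apply mul_left_cancel₀ hRc
      linear_combination hinner
    have hi' : δ * ((R.index : ℤ) - 1) = (R.index : ℤ) * m ψ := by exact_mod_cast hi
    have hidx : 2 ≤ R.index := by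
      have h1 := R.index_ne_zero_of_finite
      have h2 : R.index ≠ 1 := fun h => hR (Subgroup.index_eq_one.1 h)
      omega
    have : (R.index : ℤ) ∣ δ := ⟨δ - m ψ, by linear_combination -hi'⟩
    rcases hδ with rfl | rfl
    · have := Int.le_of_dvd one_pos this
      omega
    · rw [Int.dvd_neg] at this
      have := Int.le_of_dvd one_pos this
      omega
  refine ⟨fun r => DFunLike.congr_fun hagree r, m ψ - δ, ?_⟩
  rw [if_pos hagree] at hinner
  apply mul_left_cancel₀ hRc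
  push_cast
  linear_combination hinner

/-- One sign serves a whole family with one constant on `R`. -/
theorem exists_common_sign {ι : Type*} {R : Subgroup P} (hR : R ≠ ⊤) {Φ : ι → P → ℂ}
    (hΦ : ∀ i, Φ i ∈ genChar P) {K : ℂ} (lam : ι → R →* ℂˣ)
    (hon : ∀ i, ∀ r : R, Φ i r = K * (lam i r : ℂ))
    (hoff : ∀ i, ∃ δ : ℤ, (δ = 1 ∨ δ = -1) ∧
      ∃ ψ : P →* ℂˣ, ∀ v, v ∉ R → Φ i v = (δ : ℂ) * (ψ v : ℂ)) :
    ∃ δ : ℤ, (δ = 1 ∨ δ = -1) ∧ ∀ i, ∃ ψ : P →* ℂˣ,
      (∀ r : R, lam i r = ψ r) ∧ ∀ v, v ∉ R → Φ i v = (δ : ℂ) * (ψ v : ℂ) := by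
  choose δ hδ ψ hψ using hoff
  have hk := fun i => agree_of_off hR (hΦ i) (hδ i) (hψ i) (hon i)
  rcases isEmpty_or_nonempty ι with h | ⟨⟨i₀⟩⟩
  · exact ⟨1, Or.inl rfl, fun i => isEmptyElim i⟩
  have hidx : 2 ≤ R.index := by
    have h1 := R.index_ne_zero_of_finite
    have h2 : R.index ≠ 1 := fun h => hR (Subgroup.index_eq_one.1 h)
    omega
  rcases eq_or_lt_of_le hidx with h2 | h3
  · -- index two: the sign can be absorbed in the character
    obtain ⟨v₀, hv₀⟩ : ∃ v, v ∉ R := by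
      by_contra hcon
      push Not at hcon
      exact hR (R.eq_top_iff'.2 hcon)
    obtain ⟨μ, hμ, hμv⟩ := exists_separating hv₀
    refine ⟨1, Or.inl rfl, fun i => ?_⟩
    rcases hδ i with h1 | h1
    · exact ⟨ψ i, (hk i).1, fun v hv => by rw [hψ i v hv, h1]⟩
    refine ⟨μ * ψ i, fun r => by rw [MonoidHom.mul_apply, hμ r r.2, one_mul, (hk i).1 r],
      fun v hv => ?_⟩
    have hvv : ∀ a b, a ∉ R → b ∉ R → a * b ∈ R := fun a b ha hb => by
      rw [Subgroup.mul_mem_iff_of_index_two h2.symm]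
      exact iff_of_false ha hb
    have h4 : μ v = -1 := by
      have hvμ : μ v₀ * μ v₀ = 1 := by rw [← map_mul, hμ _ (hvv v₀ v₀ hv₀ hv₀)]
      have h5 : μ v * μ v₀ = 1 := by rw [← map_mul, hμ _ (hvv v v₀ hv hv₀)]
      rw [mul_right_cancel (h5.trans hvμ.symm)]
      refine Units.ext ?_
      have h6 : ((μ v₀ : ℂˣ) : ℂ) * (μ v₀ : ℂˣ) = 1 := by rw [← Units.val_mul, hvμ, Units.val_one]
      rcases mul_self_eq_one_iff.1 h6 with h7 | h7
      · exact absurd (Units.ext h7) hμv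
      · rw [h7, Units.val_neg, Units.val_one]
    rw [hψ i v hv, h1, MonoidHom.mul_apply, h4]
    push_cast
    ring
  · refine ⟨δ i₀, hδ i₀, fun i => ⟨ψ i, (hk i).1, fun v hv => ?_⟩⟩
    rw [hψ i v hv]
    obtain ⟨-, n, hn⟩ := hk i
    obtain ⟨-, n₀, hn₀⟩ := hk i₀
    have h : δ i + (R.index : ℤ) * n = δ i₀ + (R.index : ℤ) * n₀ := by
      exact_mod_cast hn.symm.trans hn₀
    have hd : (R.index : ℤ) ∣ δ i - δ i₀ := ⟨n₀ - n, by linear_combination h⟩
    have h0 : δ i - δ i₀ = 0 := by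
      refine Int.eq_zero_of_abs_lt_dvd hd ?_
      rcases hδ i with e | e <;> rcases hδ i₀ with e' | e' <;> rw [e, e'] <;> norm_num <;> omega
    rw [sub_eq_zero.1 h0]

end CfsgLib.Blocks.AbelianFree
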