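import Cfsg.Agent.Blocks.AbelianFree.Transport
import Cfsg.Agent.Blocks.AbelianFrobenius.Dual

/-!
# The signed scalars of the characters of the block at the elements of `P`

`gval P f χ v` is the signed scalar of `χ` at `v ≠ 1`.  It is invariant under the inertial
automorphisms, its columns are orthogonal, and off the identity it agrees with a generalized
character of `P`.
-/

set_option autoImplicit false
open scoped MonoidAlgebra ComplexConjugate Classical
open Cfsg CfsgLib CfsgLib.Blocks CfsgLib.Blocks.HeightZero CfsgLib.Blocks.Contrib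
open CfsgLib.Blocks.AbelianFrobenius

namespace CfsgLib.Blocks.AbelianFree

universe u

variable {G : Type u} [Group G] [Fintype G] {p : ℕ} {M : Ideal AlgInt} [M.IsMaximal]

/-- The inertial automorphisms of `P`. -/
noncomputable def aut (P : Subgroup G) (f : MonoidAlgebra (kres M) G) : Subgroup (MulAut P) :=
  (P.normalizerMonoidHom.comp (Subgroup.inclusion (pairStab_le_normalizer ⊤ P f))).range

theorem mem_aut {P : Subgroup G} {f : MonoidAlgebra (kres M) G} {a : MulAut P} :
    a ∈ aut P f ↔ ∃ t ∈ pairStab ⊤ P f, ∀ v : P, (a v : G) = t * v * t⁻¹ := by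
  constructor
  · rintro ⟨t, rfl⟩
    exact ⟨t, t.2, fun v => rfl⟩
  · rintro ⟨t, ht, h⟩
    exact ⟨⟨t, ht⟩, MulEquiv.ext fun v => Subtype.ext (h v).symm⟩

/-- The signed scalar of `χ` at `v`. -/
noncomputable def gval (p : ℕ) (P : Subgroup G) (f : MonoidAlgebra (kres M) G) (χ : IrrCharacter G)
    (v : P) : ℂ :=
  if v = 1 then 0 else eps p P f (Subgroup.zpowers (v : G)) *
    pval p P f (Subgroup.zpowers (v : G)) v (χ : G → ℂ)

theorem gval_one {P : Subgroup G} (f : MonoidAlgebra (kres M) G) (χ : IrrCharacter G) :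
    gval p P f χ 1 = 0 := if_pos rfl

/-- Two class functions on a centralizer, paired through all characters of the group. -/
theorem sum_irr_pair (hp : p.Prime) {H : Subgroup G} [Fintype H] {u : G}
    (hH : H = Subgroup.centralizer ({u} : Set G)) (hu : ∃ e : ℕ, orderOf u = p ^ e) (a b : H → ℂ)
    (hb : IsClassFunction H b) :
    ∑ χ : IrrCharacter G, (∑ s ∈ regSet p H, (χ : G → ℂ) (u * (s : G)) * a s) *
        conj (∑ t ∈ regSet p H, (χ : G → ℂ) (u * (t : G)) * b t) =
      (Nat.card H : ℂ) * ∑ s ∈ regSet p H, a s * conj (b s) := by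
  calc _ = ∑ s ∈ regSet p H, ∑ t ∈ regSet p H, a s * conj (b t) *
        ∑ χ : IrrCharacter G, (χ : G → ℂ) (u * (s : G)) * conj ((χ : G → ℂ) (u * (t : G))) := by
        rw [Finset.sum_congr rfl fun χ _ => by rw [map_sum, Finset.sum_mul_sum], Finset.sum_comm]
        refine Finset.sum_congr rfl fun s _ => ?_
        rw [Finset.sum_comm]
        refine Finset.sum_congr rfl fun t _ => ?_
        rw [Finset.mul_sum]
        refine Finset.sum_congr rfl fun χ _ => ?_
        rw [map_mul]
        ring
    _ = ∑ s ∈ regSet p H, ∑ c : H, a s * conj (b s) := by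
        refine Finset.sum_congr rfl fun s hs => ?_
        rw [Finset.sum_congr rfl fun t ht => by
          rw [sum_irr_section_mul_conj hp hH hu (mem_regSet.1 ht) (mem_regSet.1 hs),
            Finset.mul_sum], Finset.sum_comm]
        refine Finset.sum_congr rfl fun c _ => ?_
        simp only [mul_ite, mul_one, mul_zero]
        rw [Finset.sum_ite_eq, if_pos (mem_regSet.2 ((isPRegular_conj_iff c s).2 (mem_regSet.1 hs))),
          hb s c]
    _ = _ := by
        simp only [Finset.sum_const, Finset.card_univ, nsmul_eq_mul, Finset.mul_sum,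
          Nat.card_eq_fintype_card]

namespace Setting

variable [Fact p.Prime] [CharP (kres M) p] {B : Set (IrrCharacter G)} {P : Subgroup G}
  {f : MonoidAlgebra (kres M) G}

omit [CharP (kres M) p] in
theorem zpowers_le (_h : Setting p M B P f) (v : P) : Subgroup.zpowers (v : G) ≤ P :=
  Subgroup.zpowers_le.2 v.2

omit [Fact p.Prime] [CharP (kres M) p] in
theorem zpowers_ne_bot {v : P} (hv : v ≠ 1) : Subgroup.zpowers (v : G) ≠ ⊥ := fun e =>
  hv (Subtype.ext (Subgroup.zpowers_eq_bot.1 e))

theorem reg_zpowers (h : Setting p M B P f) {v : P} (hv : v ≠ 1) :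
    Reg p P f (Subgroup.zpowers (v : G)) :=
  (h.main (h.zpowers_le v) (zpowers_ne_bot hv)).1

theorem orderOf_coe_pow (h : Setting p M B P f) (v : P) : ∃ e, orderOf (v : G) = p ^ e :=
  orderOf_pow h.isPGroup v.2

/-- The inertial automorphisms fix only the identity. -/
theorem fpf (h : Setting p M B P f) : FPF (aut P f) := by
  intro a ha hne y hy
  obtain ⟨t, ht, hat⟩ := mem_aut.1 ha
  by_contra hy1
  have htC := h.free t ht y y.2 (fun e => hy1 (Subtype.ext e)) (by rw [← hat, hy])
  refine hne (MulEquiv.ext fun v => Subtype.ext ?_)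
  rw [hat, ← Subgroup.mem_centralizer_iff.mp htC v v.2, mul_inv_cancel_right]
  rfl

theorem gval_aut (h : Setting p M B P f) {a : MulAut P} (ha : a ∈ aut P f) (χ : IrrCharacter G)
    (v : P) : gval p P f χ (a v) = gval p P f χ v := by
  by_cases hv : v = 1
  · rw [hv, map_one]
  obtain ⟨t, ht, hat⟩ := mem_aut.1 ha
  have hav : a v ≠ 1 := fun e => hv (by simpa using congrArg a.symm e)
  rw [gval, gval, if_neg hav, if_neg hv, hat]
  have hmap : Subgroup.zpowers (t * (v : G) * t⁻¹) =
      (Subgroup.zpowers (v : G)).map (MulAut.conj t).toMonoidHom := by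
    rw [MonoidHom.map_zpowers]
    rfl
  rw [hmap, h.eps_conj (h.zpowers_le v) (zpowers_ne_bot hv) ht,
    h.pval_conj ht (h.zpowers_le v) (h.reg_zpowers hv),
    funext fun g => irrCharacter_conj χ g t]

/-- Characters outside the block have scalar zero. -/
theorem pval_irr_eq_zero (h : Setting p M B P f) {v : P} (hv : v ≠ 1) {χ : IrrCharacter G}
    (hχ : χ ∉ B) : pval p P f (Subgroup.zpowers (v : G)) v (χ : G → ℂ) = 0 := by
  have hS := h.zpowers_le v
  have hH := centralizer_zpowers_eq (v : G)
  have h1 := h.part_eq_smul hS (h.reg_zpowers hv) (v := (v : G))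
    (isClassFunction_translate hH χ) h.isPRegular_one
  rw [part, blockPart_section_eq_zero h.hM hH (h.orderOf_coe_pow v) (h.blk hS)
    (B := blockOf M (χ : G → ℂ)) ⟨χ, rfl⟩
    (fun hc => hχ (by
      rw [isInducedBlock_unique h.hM (h.induced hS) hc]; exact self_mem_blockOf χ))
    (self_mem_blockOf χ) h.isPRegular_one, eq_comm, mul_eq_zero] at h1
  exact h1.resolve_right (h.rep_one_ne_zero hS)

theorem gval_eq_zero (h : Setting p M B P f) {χ : IrrCharacter G} (hχ : χ ∉ B) (v : P) :
    gval p P f χ v = 0 := by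
  by_cases hv : v = 1
  · rw [hv, gval_one]
  · rw [gval, if_neg hv, h.pval_irr_eq_zero hv hχ, mul_zero]

theorem conj_eps (P : Subgroup G) (f : MonoidAlgebra (kres M) G) (S : Subgroup G) :
    conj (eps p P f S) = eps p P f S := by
  rcases eps_cases (p := p) P f S with e | e <;> simp [e]

/-- The columns are orthogonal. -/
theorem sum_gval_mul_conj (h : Setting p M B P f) {u v : P} (hu : u ≠ 1) (hv : v ≠ 1) :
    ∑ χ ∈ B.toFinite.toFinset, gval p P f χ u * conj (gval p P f χ v) =
      (Nat.card P : ℂ) * ∑ a : aut P f, if (a : MulAut P) u = v then 1 else 0 := by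
  rw [Finset.sum_subset (Finset.subset_univ _) fun χ _ hχ => by
    rw [h.gval_eq_zero (fun h' => hχ ((Set.Finite.mem_toFinset _).2 h')), zero_mul]]
  simp only [gval, if_neg hu, if_neg hv, map_mul, conj_eps]
  set Su := Subgroup.zpowers (u : G)
  set Sv := Subgroup.zpowers (v : G)
  by_cases hconj : IsConj (u : G) (v : G)
  swap
  · rw [Finset.sum_eq_zero (s := (Finset.univ : Finset (aut P f))) fun a _ => if_neg fun e => hconj ?_,
      mul_zero]
    · simp only [pval, map_mul, map_sum, Finset.mul_sum, Finset.sum_mul]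
      rw [Finset.sum_comm]
      refine Finset.sum_eq_zero fun t ht => ?_
      rw [Finset.sum_comm]
      refine Finset.sum_eq_zero fun s hs => ?_
      have h0 := Chars.sum_irr_mul_conj ((u : G) * (s : G)) ((v : G) * (t : G))
      rw [if_neg fun hc => hconj ?_] at h0
      · refine (Finset.sum_congr rfl (g := fun χ : IrrCharacter G => (eps p P f Su * ((Nat.card P : ℂ) /
            (Nat.card (cn Su) : ℂ) * conj (rep p P f Su s)) * (eps p P f Sv *
              (conj ((Nat.card P : ℂ) / (Nat.card (cn Sv) : ℂ)) * rep p P f Sv t))) *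
            ((χ : G → ℂ) ((u : G) * (s : G)) * conj ((χ : G → ℂ) ((v : G) * (t : G)))))
            fun χ _ => ?_).trans (by rw [← Finset.mul_sum, h0, mul_zero])
        rw [Complex.conj_conj]
        ring
      · obtain ⟨x, hx⟩ := isConj_iff.1 hc
        have h1 := isPPart_conj (isPPart_mul_of_mem (p := p) (centralizer_zpowers_eq (u : G))
          (h.orderOf_coe_pow u) (mem_regSet.1 hs)) x
        rw [hx] at h1
        exact isConj_iff.2 ⟨x, isPPart_unique h.hM.1 h1
          (isPPart_mul_of_mem (centralizer_zpowers_eq (v : G)) (h.orderOf_coe_pow v)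
            (mem_regSet.1 ht))⟩
    · obtain ⟨t, -, hat⟩ := mem_aut.1 a.2
      exact isConj_iff.2 ⟨t, by rw [← hat, e]⟩
  obtain ⟨x, hx⟩ := isConj_iff.1 hconj
  have hSu := h.zpowers_le u
  have hSv := h.zpowers_le v
  have hmapS : Su.map (MulAut.conj x).toMonoidHom = Sv := by
    rw [MonoidHom.map_zpowers]
    exact congrArg Subgroup.zpowers hx
  have hmapC : (cn Su).map (MulAut.conj x).toMonoidHom = cn Sv := by rw [map_cn, hmapS]
  set φ := conjIso (cn Su) (cn Sv) x hmapC with hφ
  obtain ⟨θ, hθ, hrepv⟩ := h.exists_rep hSv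
  obtain ⟨θ₀, hθ₀, hrepu⟩ := h.exists_rep hSu
  set ξ : IrrCharacter (cn Su) := Chars.irrEquiv φ.symm θ with hξ
  set β := mapBlock φ.symm (bl p P f Sv) with hβ
  have hξβ : ξ ∈ β := ⟨θ, hθ, rfl⟩
  have hβblk : IsPBlock M β := isPBlock_mapBlock _ (h.blk hSv)
  have hpv : ∀ χ : IrrCharacter G, pval p P f Sv v (χ : G → ℂ) =
      (Nat.card P : ℂ) / (Nat.card (cn Su) : ℂ) *
        ∑ t ∈ regSet p (cn Su), (χ : G → ℂ) ((u : G) * (t : G)) * conj ((ξ : cn Su → ℂ) t) := by
    intro χ
    rw [pval, Nat.card_congr φ.toEquiv]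
    congr 1
    refine (Finset.sum_equiv φ.toEquiv (fun s => ?_) fun s hs => ?_).symm
    · simp only [mem_regSet, IsPRegular, MulEquiv.toEquiv_eq_coe, EquivLike.coe_coe,
        MulEquiv.orderOf_eq]
    · rw [MulEquiv.toEquiv_eq_coe, EquivLike.coe_coe, hrepv, hξ, Chars.irrEquiv_apply,
        MulEquiv.symm_symm, hφ, coe_conjIso,
        show (v : G) * (x * (s : G) * x⁻¹) = x * ((u : G) * (s : G)) * x⁻¹ by rw [← hx]; group,
        irrCharacter_conj]
  have hprod : ∑ χ : IrrCharacter G, pval p P f Su u (χ : G → ℂ) *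
      conj (pval p P f Sv v (χ : G → ℂ)) =
      (Nat.card P : ℂ) ^ 2 / (Nat.card (cn Su) : ℂ) *
        regPair p (ξ : cn Su → ℂ) (θ₀ : cn Su → ℂ) := by
    rw [Finset.sum_congr rfl (g := fun χ : IrrCharacter G =>
        ((Nat.card P : ℂ) / (Nat.card (cn Su) : ℂ) * ((Nat.card P : ℂ) / (Nat.card (cn Su) : ℂ))) *
        ((∑ s ∈ regSet p (cn Su), (χ : G → ℂ) ((u : G) * (s : G)) * conj ((θ₀ : cn Su → ℂ) s)) *
          conj (∑ s ∈ regSet p (cn Su), (χ : G → ℂ) ((u : G) * (s : G)) * conj ((ξ : cn Su → ℂ) s))))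
        fun χ _ => by
          rw [hpv χ, pval, hrepu, map_mul, map_div₀, Complex.conj_natCast, Complex.conj_natCast]
          ring, ← Finset.mul_sum,
      sum_irr_pair h.hM.1 (centralizer_zpowers_eq (u : G)) (h.orderOf_coe_pow u)
      (fun s => conj ((θ₀ : cn Su → ℂ) s)) (fun s => conj ((ξ : cn Su → ℂ) s))
      (fun s c => congrArg (starRingEnd ℂ) (Chars.isClassFunction_coe ξ s c)), regPair_eq_sum_regSet]
    simp only [Complex.conj_conj]
    rw [Finset.sum_congr rfl fun s _ => mul_comm (conj ((θ₀ : cn Su → ℂ) s)) _]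
    field_simp
    rfl
  have hsub : subEl M (cn Sv) (bl p P f Sv) = conjA x (subEl M (cn Su) β) := by
    rw [← subEl_mapBlock_conj x hmapC β, hβ]
    congr 1
    rw [← hφ, mapBlock, mapBlock, Set.image_image]
    convert (Set.image_id (bl p P f Sv)).symm
    refine Subtype.ext (funext fun c => ?_)
    simp [Chars.irrEquiv_apply]
  simp only [mul_mul_mul_comm]
  by_cases hsame : β = bl p P f Su
  · obtain ⟨c, hc, ht⟩ := h.fusion hSu hSv hmapS (by rw [hsub, hsame])
    set t := c * x with htdef
    have htu : t * (u : G) * t⁻¹ = v := by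
      calc t * (u : G) * t⁻¹ = c * (x * u * x⁻¹) * c⁻¹ := by rw [htdef]; group
        _ = v := by
          rw [hx, ← Subgroup.mem_centralizer_iff.mp hc v (Subgroup.mem_zpowers _),
            mul_inv_cancel_right]
    have heps : eps p P f Sv = eps p P f Su := by
      rw [show Sv = Su.map (MulAut.conj t).toMonoidHom from by
        rw [MonoidHom.map_zpowers]; exact (congrArg Subgroup.zpowers htu).symm]
      exact h.eps_conj hSu (zpowers_ne_bot hu) ht
    obtain ⟨a₀, ha₀⟩ : ∃ a : aut P f, (a : MulAut P) u = v :=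
      ⟨⟨P.normalizerMonoidHom ⟨t, pairStab_le_normalizer _ _ _ ht⟩,
        mem_aut.2 ⟨t, ht, fun w => rfl⟩⟩, Subtype.ext htu⟩
    rw [Finset.sum_eq_single a₀ (fun a _ hne => if_neg fun e => hne ?_)
      (fun h' => absurd (Finset.mem_univ _) h'), if_pos ha₀, mul_one,
      Finset.sum_congr rfl fun χ _ => by rw [heps, eps_mul_self, one_mul], hprod]
    · have hreg : regPair p (ξ : cn Su → ℂ) (θ₀ : cn Su → ℂ) =
          ((regSq p (rep p P f Su) : ℝ) : ℂ) := by
        rw [regPair_eq_sum_regSet, regSq_eq, Complex.ofReal_sum]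
        refine Finset.sum_congr rfl fun s hs => ?_
        rw [(h.reg_zpowers hu).eq_reg ξ (hsame ▸ hξβ) s (mem_regSet.1 hs), hrepu,
          Complex.ofReal_pow, Complex.mul_conj']
      have hn := congrArg (fun r : ℝ => (r : ℂ)) (h.reg_zpowers hu).norm
      push_cast at hn
      rw [hreg]
      field_simp
      linear_combination hn
    · have hfix : ((a₀ : MulAut P)⁻¹ * (a : MulAut P)) u = u := by
        rw [MulAut.mul_apply, e, ← ha₀, MulAut.inv_apply_self]
      by_contra hne'
      refine hu (h.fpf _ ((aut P f).mul_mem ((aut P f).inv_mem a₀.2) a.2) ?_ u hfix)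
      exact fun e' => hne' (Subtype.ext (inv_mul_eq_one.1 e').symm)
  · rw [Finset.sum_eq_zero (s := (Finset.univ : Finset (aut P f))) fun a _ => if_neg fun e => hsame ?_,
      mul_zero]
    · rw [← Finset.mul_sum, hprod,
        regPair_eq_zero_of_ne_block h.hM (h.blk hSu) hθ₀ (fun hmem => hsame ?_), mul_zero, mul_zero]
      rw [eq_blockOf_of_mem (h.blk hSu) hmem, ← eq_blockOf_of_mem hβblk hξβ]
    · obtain ⟨t, ht, hat⟩ := mem_aut.1 a.2
      refine subEl_injective (M := M) hβblk (h.blk hSu) ?_
      have htu : t * (u : G) * t⁻¹ = v := by rw [← hat, e]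
      have hmt : Su.map (MulAut.conj t).toMonoidHom = Sv := by
        rw [MonoidHom.map_zpowers]; exact congrArg Subgroup.zpowers htu
      have h1 := (h.spec hSu).2.conjA (x := t) trivial
      rw [h.map_stab ht, (mem_pairStab.mp ht).2, hmt] at h1
      have h2 := PairLE.unique h.pair.1 h1 (h.spec hSv).2
      have hy : t⁻¹ * x ∈ cn Su := by
        rw [cn, centralizer_zpowers_eq, Subgroup.mem_centralizer_singleton_iff]
        calc t⁻¹ * x * (u : G) = t⁻¹ * (x * u * x⁻¹) * x := by group
          _ = t⁻¹ * (t * u * t⁻¹) * x := by rw [hx, htu]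
          _ = (u : G) * (t⁻¹ * x) := by group
      have h3 : subEl M (cn Su) (bl p P f Su) = conjA (t⁻¹ * x) (subEl M (cn Su) β) := by
        rw [← conjA_conjA, ← hsub, ← h2, conjA_conjA, inv_mul_cancel, conjA_one_left]
      rw [h3, isFixedBy_iff_conjA.mp (isBlockIdem_subEl hβblk).mem.2 _ hy]

/-- Off the identity the scalars agree with a generalized character. -/
theorem exists_genChar (h : Setting p M B P f) (χ : IrrCharacter G) :
    ∃ Φ ∈ genChar P, ∀ v : P, v ≠ 1 → Φ v = gval p P f χ v := by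
  set W : Subgroup G → P → ℂ := fun S v => eps p P f S * pval p P f S v (χ : G → ℂ) with hW
  refine ⟨glue P ⊥ W, glue_mem _ fun S hS hSP => ?_, fun v hv => ?_⟩
  · have hS1 : S ≠ ⊥ := hS.ne'
    refine h.genChar_of_lin hSP (fun T hST hTP => (h.main hTP fun e => hS1 ?_).1)
      (h.main hSP hS1).2 (Chars.isCharacter_restrict (Chars.isCharacter_coe χ) _)
    exact eq_bot_iff.2 (e ▸ hST)
  · rw [glue_apply_of_not_mem bot_le (fun h' => hv (Subtype.ext (Subgroup.mem_bot.1 h'))),
      bot_sup_eq, gval, if_neg hv]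

/-- Every character of the block has a nonzero scalar at every nonidentity element. -/
theorem gval_ne_zero (h : Setting p M B P f) {χ : IrrCharacter G} (hχ : χ ∈ B) {v : P} (hv : v ≠ 1) :
    gval p P f χ v ≠ 0 := by
  have hS := h.zpowers_le v
  obtain ⟨e, he⟩ := h.orderOf_coe_pow v
  obtain ⟨-, -, -, hne⟩ := HeightCenter.exists_diag_scale h.hM (centralizer_zpowers_eq (v : G))
    (k := e) (by rw [← he, pow_orderOf_eq_one]) (h.induced hS) (h.defect_eq hS) hχ
  intro h0
  rw [gval, if_neg hv, mul_eq_zero] at h0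
  have h1 : pval p P f (Subgroup.zpowers (v : G)) v (χ : G → ℂ) = 0 :=
    h0.resolve_left fun e => by simpa [e] using norm_eps (p := p) P f (Subgroup.zpowers (v : G))
  refine hne ?_
  rw [contrib, Finset.sum_eq_zero fun s hs => ?_, mul_zero]
  have h2 := h.part_eq_smul hS (h.reg_zpowers hv) (v := (v : G))
    (isClassFunction_translate (centralizer_zpowers_eq (v : G)) χ) (mem_regSet.1 hs)
  rw [h1, zero_mul] at h2
  rw [sectPart]
  rw [part] at h2
  rw [h2, zero_mul]

/-- Regular elements are orthogonal to the singular scalars. -/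
theorem sum_apply_mul_gval (h : Setting p M B P f) {g : G} (hg : IsPRegular p g) (v : P) :
    ∑ χ ∈ B.toFinite.toFinset, (χ : G → ℂ) g * conj (gval p P f χ v) = 0 := by
  by_cases hv : v = 1
  · simp [hv, gval_one]
  rw [Finset.sum_subset (Finset.subset_univ _) fun χ _ hχ => by
    rw [h.gval_eq_zero (fun h' => hχ ((Set.Finite.mem_toFinset _).2 h')), map_zero, mul_zero]]
  simp only [gval, if_neg hv, pval, map_mul, map_sum, Finset.mul_sum]
  rw [Finset.sum_comm]
  refine Finset.sum_eq_zero fun t ht => ?_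
  have h0 := Chars.sum_irr_mul_conj g ((v : G) * (t : G))
  rw [if_neg fun hc => hv ?_] at h0
  · refine (Finset.sum_congr rfl (g := fun χ : IrrCharacter G =>
      (conj (eps p P f (Subgroup.zpowers (v : G))) * (conj ((Nat.card P : ℂ) /
        (Nat.card (cn (Subgroup.zpowers (v : G))) : ℂ)) *
          rep p P f (Subgroup.zpowers (v : G)) t)) *
        ((χ : G → ℂ) g * conj ((χ : G → ℂ) ((v : G) * (t : G))))) fun χ _ => ?_).trans
      (by rw [← Finset.mul_sum, h0, mul_zero])
    rw [Complex.conj_conj]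
    ring
  · obtain ⟨x, hx⟩ := isConj_iff.1 hc
    have h1 : IsPPart p g 1 := ⟨g, one_mul g, Commute.one_left g, ⟨0, by simp⟩, hg⟩
    have h2 := isPPart_conj h1 x
    rw [hx] at h2
    have h3 := isPPart_unique h.hM.1 h2
      (isPPart_mul_of_mem (centralizer_zpowers_eq (v : G)) (h.orderOf_coe_pow v) (mem_regSet.1 ht))
    exact Subtype.ext (by simpa using h3.symm)

end Setting

end CfsgLib.Blocks.AbelianFree
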