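import Mathlib

/-!
# Gluing functions given above every subgroup

`W S v` is given for the subgroups `R < S ≤ P` and the elements `v ∈ S`.  If for every such `S` the
function `v ↦ W (S ⊔ ⟨v⟩) v` lies in an additive subgroup `V` of the functions on `P`, then so does a
function agreeing with `W (R ⊔ ⟨v⟩) v` off `R`.
-/

set_option autoImplicit false

namespace CfsgLib.Blocks.AbelianFree

open scoped Classical

variable {Γ : Type*} [Group Γ] [Finite Γ] {k : Type*} [CommRing k]

/-- The part of `W` belonging to `S` itself. -/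
noncomputable def glueTerm (P : Subgroup Γ) (W : Subgroup Γ → P → k) : Subgroup Γ → P → k :=
  (wellFounded_gt (α := Subgroup Γ)).fix fun S rec v =>
    W (S ⊔ Subgroup.zpowers (v : Γ)) v -
      letI := Fintype.ofFinite (Subgroup Γ)
      ∑ S' : Subgroup Γ, if h : S < S' ∧ S' ≤ P then rec S' h.1 v else 0

theorem glueTerm_eq [Fintype (Subgroup Γ)] (P : Subgroup Γ) (W : Subgroup Γ → P → k)
    (S : Subgroup Γ) (v : P) :
    glueTerm P W S v = W (S ⊔ Subgroup.zpowers (v : Γ)) v -
      ∑ S' ∈ Finset.univ.filter (fun S' => S < S' ∧ S' ≤ P), glueTerm P W S' v := by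
  rw [glueTerm, WellFounded.fix_eq, Finset.sum_filter]
  congr 1
  refine Finset.sum_congr (by ext; simp) fun S' _ => ?_
  split_ifs <;> rfl

/-- Off `R` the glued function has the values `W (R ⊔ ⟨v⟩) v`. -/
noncomputable def glue (P R : Subgroup Γ) (W : Subgroup Γ → P → k) : P → k := fun v =>
  letI := Fintype.ofFinite (Subgroup Γ)
  ∑ S ∈ Finset.univ.filter (fun S => R < S ∧ S ≤ P), glueTerm P W S v

theorem glue_eq [Fintype (Subgroup Γ)] (P R : Subgroup Γ) (W : Subgroup Γ → P → k) (v : P) :
    glue P R W v = ∑ S ∈ Finset.univ.filter (fun S => R < S ∧ S ≤ P), glueTerm P W S v := by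
  unfold glue
  convert rfl

theorem glueTerm_eq_zero {P : Subgroup Γ} {W : Subgroup Γ → P → k} :
    ∀ {S : Subgroup Γ}, S ≤ P → ∀ {v : P}, (v : Γ) ∉ S → glueTerm P W S v = 0 := by
  haveI := Fintype.ofFinite (Subgroup Γ)
  intro S
  induction S using (wellFounded_gt (α := Subgroup Γ)).induction with
  | _ S ih =>
    intro hSP v hv
    set T := S ⊔ Subgroup.zpowers (v : Γ) with hT
    have hST : S < T := lt_of_le_of_ne le_sup_left fun h =>
      hv (h ▸ le_sup_right (a := S) (Subgroup.mem_zpowers (v : Γ)))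
    have hTP : T ≤ P := sup_le hSP (Subgroup.zpowers_le.2 v.2)
    have hTT : T ⊔ Subgroup.zpowers (v : Γ) = T := sup_eq_left.2 le_sup_right
    have h1 : W T v = glueTerm P W T v +
        ∑ S' ∈ Finset.univ.filter (fun S' => T < S' ∧ S' ≤ P), glueTerm P W S' v := by
      rw [glueTerm_eq P W T v, hTT, sub_add_cancel]
    have h2 : ∑ S' ∈ Finset.univ.filter (fun S' => S < S' ∧ S' ≤ P), glueTerm P W S' v =
        ∑ S' ∈ Finset.univ.filter (fun S' => T ≤ S' ∧ S' ≤ P), glueTerm P W S' v := by
      refine (Finset.sum_subset (fun S' h => ?_) fun S' h h' => ?_).symm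
      · simp only [Finset.mem_filter, Finset.mem_univ, true_and] at h ⊢
        exact ⟨hST.trans_le h.1, h.2⟩
      · simp only [Finset.mem_filter, Finset.mem_univ, true_and] at h h'
        refine ih S' h.1 h.2 fun hv' => h' ⟨?_, h.2⟩
        exact sup_le h.1.le (Subgroup.zpowers_le.2 hv')
    have h3 : Finset.univ.filter (fun S' => T ≤ S' ∧ S' ≤ P) =
        insert T (Finset.univ.filter fun S' => T < S' ∧ S' ≤ P) := by
      ext S'
      simp only [Finset.mem_filter, Finset.mem_univ, true_and, Finset.mem_insert]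
      constructor
      · rintro ⟨h, h'⟩
        rcases eq_or_lt_of_le h with h0 | h0
        · exact Or.inl h0.symm
        · exact Or.inr ⟨h0, h'⟩
      · rintro (rfl | ⟨h, h'⟩)
        · exact ⟨le_rfl, hTP⟩
        · exact ⟨h.le, h'⟩
    rw [glueTerm_eq P W S v, h2, h3, Finset.sum_insert (by simp), ← h1, ← hT, sub_self]

theorem glue_apply_of_not_mem {P R : Subgroup Γ} (hRP : R ≤ P) {W : Subgroup Γ → P → k} {v : P}
    (hv : (v : Γ) ∉ R) : glue P R W v = W (R ⊔ Subgroup.zpowers (v : Γ)) v := by
  haveI := Fintype.ofFinite (Subgroup Γ)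
  have h := glueTerm_eq_zero (W := W) hRP hv
  rw [glueTerm_eq P W R v, sub_eq_zero] at h
  rw [glue_eq, h]

theorem glueTerm_mem {P R : Subgroup Γ} {W : Subgroup Γ → P → k} (V : AddSubgroup (P → k))
    (hW : ∀ S, R < S → S ≤ P → (fun v : P => W (S ⊔ Subgroup.zpowers (v : Γ)) v) ∈ V) :
    ∀ {S : Subgroup Γ}, R < S → S ≤ P → glueTerm P W S ∈ V := by
  haveI := Fintype.ofFinite (Subgroup Γ)
  intro S
  induction S using (wellFounded_gt (α := Subgroup Γ)).induction with
  | _ S ih =>
    intro hRS hSP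
    rw [show glueTerm P W S = (fun v : P => W (S ⊔ Subgroup.zpowers (v : Γ)) v) -
        ∑ S' ∈ Finset.univ.filter (fun S' => S < S' ∧ S' ≤ P), glueTerm P W S' from
      funext fun v => by rw [glueTerm_eq, Pi.sub_apply, Finset.sum_apply]]
    refine V.sub_mem (hW S hRS hSP) (V.sum_mem fun S' hS' => ?_)
    simp only [Finset.mem_filter, Finset.mem_univ, true_and] at hS'
    exact ih S' hS'.1 (hRS.trans hS'.1) hS'.2

/-- The glued function lies in `V`. -/
theorem glue_mem {P R : Subgroup Γ} {W : Subgroup Γ → P → k} (V : AddSubgroup (P → k))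
    (hW : ∀ S, R < S → S ≤ P → (fun v : P => W (S ⊔ Subgroup.zpowers (v : Γ)) v) ∈ V) :
    glue P R W ∈ V := by
  haveI := Fintype.ofFinite (Subgroup Γ)
  rw [show glue P R W = ∑ S ∈ Finset.univ.filter (fun S => R < S ∧ S ≤ P), glueTerm P W S from
    funext fun v => by rw [glue_eq, Finset.sum_apply]]
  refine V.sum_mem fun S hS => ?_
  simp only [Finset.mem_filter, Finset.mem_univ, true_and] at hS
  exact glueTerm_mem V hW hS.1 hS.2

/-- Two families proportional at two elements of `R` glue proportionally there. -/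
theorem glue_mul_eq {P R : Subgroup Γ} {W W' : Subgroup Γ → P → k} {v v' : P} (hv : (v : Γ) ∈ R)
    (hv' : (v' : Γ) ∈ R) {a a' : k} (h : ∀ S, R < S → S ≤ P → a' * W S v = a * W' S v') :
    a' * glue P R W v = a * glue P R W' v' := by
  haveI := Fintype.ofFinite (Subgroup Γ)
  have key : ∀ {S : Subgroup Γ}, R < S → S ≤ P →
      a' * glueTerm P W S v = a * glueTerm P W' S v' := by
    intro S
    induction S using (wellFounded_gt (α := Subgroup Γ)).induction with
    | _ S ih =>
      intro hRS hSP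
      have hS : S ⊔ Subgroup.zpowers (v : Γ) = S :=
        sup_eq_left.2 (Subgroup.zpowers_le.2 (hRS.le hv))
      have hS' : S ⊔ Subgroup.zpowers (v' : Γ) = S :=
        sup_eq_left.2 (Subgroup.zpowers_le.2 (hRS.le hv'))
      rw [glueTerm_eq, glueTerm_eq, mul_sub, mul_sub, hS, hS', h S hRS hSP, Finset.mul_sum,
        Finset.mul_sum]
      congr 1
      refine Finset.sum_congr rfl fun S' hS' => ?_
      simp only [Finset.mem_filter, Finset.mem_univ, true_and] at hS'
      exact ih S' hS'.1 (hRS.trans hS'.1) hS'.2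
  rw [glue_eq, glue_eq, Finset.mul_sum, Finset.mul_sum]
  refine Finset.sum_congr rfl fun S hS => ?_
  simp only [Finset.mem_filter, Finset.mem_univ, true_and] at hS
  exact key hS.1 hS.2

end CfsgLib.Blocks.AbelianFree
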