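import Cfsg.Agent.Blocks.AbelianFree.Value
import Cfsg.Agent.Blocks.AbelianFree.Glue
import Cfsg.Agent.Blocks.Defect.CentralCharacters

/-!
# The blocks of the centralizers of the nontrivial subgroups of `P`

By induction down the subgroups: each has one function on the regular elements, and with the right
sign `eps` the scalars of the parts of each member form a linear character of `P`.
-/

set_option autoImplicit false
open scoped MonoidAlgebra ComplexConjugate Classical
open Cfsg CfsgLib CfsgLib.Blocks CfsgLib.Blocks.HeightZero CfsgLib.Blocks.Contrib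

namespace CfsgLib.Blocks.AbelianFree

universe u

variable {G : Type u} [Group G] [Fintype G] {p : ℕ} {M : Ideal AlgInt} [M.IsMaximal]

/-- With the sign `s` the scalars of the parts form linear characters. -/
def Lin (p : ℕ) (P : Subgroup G) (f : MonoidAlgebra (kres M) G) (ε : Subgroup G → ℂ)
    (R : Subgroup G) (s : ℂ) : Prop :=
  ∀ η ∈ bl p P f R, ∃ ψ : P →* ℂˣ, ∀ v : P,
    ((v : G) ∈ R → pval p P f R v (extFun (cn R) (η : cn R → ℂ)) = ψ v) ∧
      ((v : G) ∉ R → ε (R ⊔ Subgroup.zpowers (v : G)) *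
        pval p P f (R ⊔ Subgroup.zpowers (v : G)) v (extFun (cn R) (η : cn R → ℂ)) = s * ψ v)

/-- The signs. -/
noncomputable def eps (p : ℕ) (P : Subgroup G) (f : MonoidAlgebra (kres M) G) :
    Subgroup G → ℂ :=
  (wellFounded_gt (α := Subgroup G)).fix fun R rec =>
    if Lin p P f (fun S => if h : R < S then rec S h else 1) R 1 then 1 else -1

theorem lin_congr {P : Subgroup G} {f : MonoidAlgebra (kres M) G} {ε ε' : Subgroup G → ℂ}
    {R : Subgroup G} {s : ℂ} (h : ∀ S, R < S → ε S = ε' S) :
    Lin p P f ε R s ↔ Lin p P f ε' R s := by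
  have key : ∀ v : P, (v : G) ∉ R → ε (R ⊔ Subgroup.zpowers (v : G)) =
      ε' (R ⊔ Subgroup.zpowers (v : G)) := fun v hv =>
    h _ (lt_of_le_of_ne le_sup_left fun e => hv (e ▸ Subgroup.mem_sup_right (Subgroup.mem_zpowers _)))
  constructor <;> intro H η hη <;> obtain ⟨ψ, hψ⟩ := H η hη <;>
    refine ⟨ψ, fun v => ⟨(hψ v).1, fun hv => ?_⟩⟩
  · rw [← key v hv]; exact (hψ v).2 hv
  · rw [key v hv]; exact (hψ v).2 hv

theorem eps_eq (P : Subgroup G) (f : MonoidAlgebra (kres M) G) (R : Subgroup G) :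
    eps p P f R = if Lin p P f (eps p P f) R 1 then 1 else -1 := by
  rw [eps, WellFounded.fix_eq]
  refine if_congr (lin_congr fun S hS => ?_) rfl rfl
  rw [dif_pos hS]

theorem eps_cases (P : Subgroup G) (f : MonoidAlgebra (kres M) G) (R : Subgroup G) :
    eps p P f R = 1 ∨ eps p P f R = -1 := by
  rw [eps_eq]
  split_ifs <;> simp

theorem norm_eps (P : Subgroup G) (f : MonoidAlgebra (kres M) G) (R : Subgroup G) :
    ‖eps p P f R‖ = 1 := by
  rcases eps_cases (p := p) P f R with h | h <;> simp [h]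

theorem eps_mul_self (P : Subgroup G) (f : MonoidAlgebra (kres M) G) (R : Subgroup G) :
    eps p P f R * eps p P f R = 1 := by
  rcases eps_cases (p := p) P f R with h | h <;> simp [h]

namespace Setting

variable [Fact p.Prime] [CharP (kres M) p] {B : Set (IrrCharacter G)} {P : Subgroup G}
  {f : MonoidAlgebra (kres M) G} {R S : Subgroup G}

/-- Signed scalars of a function combine the linear characters to a generalized character. -/
theorem genChar_of_lin (h : Setting p M B P f) (hS : S ≤ P)
    (hReg : ∀ T, S ≤ T → T ≤ P → Reg p P f T) (hLin : Lin p P f (eps p P f) S (eps p P f S))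
    {F : G → ℂ} (hF : IsCharacter (cn S) fun g : cn S => F (g : G)) :
    (fun v : P => eps p P f (S ⊔ Subgroup.zpowers (v : G)) *
      pval p P f (S ⊔ Subgroup.zpowers (v : G)) v F) ∈ genChar P := by
  haveI := Fintype.ofFinite (cn S)
  obtain ⟨n, hn, -⟩ := Chars.exists_nat_coeff hF
  have hterm : ∀ θ : IrrCharacter (cn S), (fun v : P => eps p P f (S ⊔ Subgroup.zpowers (v : G)) *
      pval p P f (S ⊔ Subgroup.zpowers (v : G)) v (extFun (cn S) (θ : cn S → ℂ))) ∈ genChar P := by
    intro θ
    by_cases hθ : θ ∈ bl p P f S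
    · obtain ⟨ψ, hψ⟩ := hLin θ hθ
      rw [show (fun v : P => eps p P f (S ⊔ Subgroup.zpowers (v : G)) *
          pval p P f (S ⊔ Subgroup.zpowers (v : G)) v (extFun (cn S) (θ : cn S → ℂ))) =
          fun v : P => eps p P f S * (ψ v : ℂ) from funext fun v => ?_]
      · rcases eps_cases (p := p) P f S with e | e
        · simpa [e] using linChar_mem_genChar ψ
        · simp only [e, neg_mul, one_mul]
          exact (genChar P).neg_mem (linChar_mem_genChar ψ)
      · by_cases hv : (v : G) ∈ S
        · rw [sup_eq_left.2 (Subgroup.zpowers_le.2 hv), (hψ v).1 hv]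
        · exact (hψ v).2 hv
    · rw [show (fun v : P => eps p P f (S ⊔ Subgroup.zpowers (v : G)) *
          pval p P f (S ⊔ Subgroup.zpowers (v : G)) v (extFun (cn S) (θ : cn S → ℂ))) = 0 from
        funext fun v => by
          rw [h.pval_eq_zero hS v.2 (hReg _ le_sup_left (sup_le hS (Subgroup.zpowers_le.2 v.2))) hθ,
            mul_zero, Pi.zero_apply]]
      exact (genChar P).zero_mem
  rw [show (fun v : P => eps p P f (S ⊔ Subgroup.zpowers (v : G)) *
      pval p P f (S ⊔ Subgroup.zpowers (v : G)) v F) =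
      ∑ θ : IrrCharacter (cn S), n θ • fun v : P => eps p P f (S ⊔ Subgroup.zpowers (v : G)) *
        pval p P f (S ⊔ Subgroup.zpowers (v : G)) v (extFun (cn S) (θ : cn S → ℂ)) from
    funext fun v => ?_]
  · exact (genChar P).sum_mem fun θ _ => (genChar P).nsmul_mem (hterm θ) _
  · rw [pval_congr P f (F' := fun g => ∑ θ : IrrCharacter (cn S),
      (n θ : ℂ) * extFun (cn S) (θ : cn S → ℂ) g) fun s _ => ?_, pval_sum, Finset.mul_sum,
      Finset.sum_apply]
    · exact Finset.sum_congr rfl fun θ _ => by rw [Pi.smul_apply, nsmul_eq_mul]; ring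
    · have hm : (v : G) * (s : G) ∈ cn S :=
        (cn S).mul_mem (h.le_cn hS v.2) (cn_anti (le_sup_left : S ≤ _) s.2)
      have := congrFun hn ⟨_, hm⟩
      simp only [Finset.sum_apply, Pi.smul_apply, smul_eq_mul] at this
      rw [this]
      exact Finset.sum_congr rfl fun θ _ => by rw [extFun_of_mem _ hm]

/-- The normalised norm of a member on the regular elements. -/
theorem one_le_scale (h : Setting p M B P f) (hR : R ≤ P) {η : IrrCharacter (cn R)}
    (hη : η ∈ bl p P f R) :
    1 ≤ (Nat.card P : ℝ) / (Nat.card (cn R) : ℝ) * regSq p (η : cn R → ℂ) := by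
  obtain ⟨n, hn⟩ := exists_int_scale_regPair h.hM (h.blk hR) hη hη
  have hn' : (n : ℝ) = (Nat.card P : ℝ) / (Nat.card (cn R) : ℝ) * regSq p (η : cn R → ℂ) := by
    apply Complex.ofReal_injective
    rw [Complex.ofReal_intCast, hn, h.defect_eq hR, h.natCard_eq, regPair_eq_sum_regSet, regSq_eq]
    push_cast
    congr 1
    exact Finset.sum_congr rfl fun s _ => Complex.mul_conj' _
  have hpos : 0 < (n : ℝ) := by
    rw [hn']
    refine mul_pos (div_pos (Nat.cast_pos.2 Nat.card_pos) (Nat.cast_pos.2 Nat.card_pos)) ?_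
    rw [regSq_eq]
    refine lt_of_lt_of_le ?_ (Finset.single_le_sum (fun s _ => sq_nonneg ‖(η : cn R → ℂ) s‖)
      (mem_regSet.2 h.isPRegular_one))
    have := norm_pos_iff.2 (Chars.map_one_ne_zero η)
    positivity
  rw [← hn']
  exact_mod_cast (show (0 : ℤ) < n by exact_mod_cast hpos)

/-- The defect group of the block of the centralizer of `P` is `P`. -/
theorem isDefectGroup_bl_self (h : Setting p M B P f) :
    IsDefectGroup p M (bl p P f P) (P.subgroupOf (cn P)) := by
  obtain ⟨hβ, hle⟩ := h.spec le_rfl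
  have hPC := h.le_cn le_rfl
  have hfb : IsBlockIdem (cn P) (subEl M (cn P) (bl p P f P)) := isBlockIdem_subEl hβ
  have hne := (hle.trunc_ne_zero h.pair.1 (le_inf le_rfl (h.le_normalizer le_rfl))).1
  obtain ⟨E, hE⟩ := hfb.exists_defectGroup p
  obtain ⟨x, hx, hxE⟩ := (brTrunc_ne_zero_iff hfb hE hPC h.isPGroup).1 hne
  rw [map_conj_eq_of_mem_centralizer hx] at hxE
  have hEP : P = E := by
    refine Subgroup.eq_of_le_of_card_ge hxE ?_
    rw [h.natCard_eq, ← h.defect_eq le_rfl,
      ← Nat.card_congr (Subgroup.subgroupOfEquivOfLe hE.1).toEquiv,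
      Contrib.natCard_defectGroup h.hM hβ ((isDefectGroup_subgroupOf_iff (p := p) hE.1 hβ).2 hE)]
  rw [isDefectGroup_subgroupOf_iff hPC hβ]
  exact hEP ▸ hE

theorem subgroupOf_le_center (h : Setting p M B P f) :
    P.subgroupOf (cn P) ≤ Subgroup.center (cn P) := fun x hx =>
  Subgroup.mem_center_iff.2 fun g =>
    Subtype.ext (Subgroup.mem_centralizer_iff.1 g.2 x hx).symm

/-- The scalar at an element of `R`. -/
theorem pval_apply_of_mem (h : Setting p M B P f) (hR : R ≤ P) (hReg : Reg p P f R)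
    {η : IrrCharacter (cn R)} (hη : η ∈ bl p P f R) {lam : R →* ℂˣ}
    (hlam : ∀ (r : R) (g : cn R),
      extFun (cn R) (η : cn R → ℂ) ((r : G) * g) = (lam r : ℂ) * (η : cn R → ℂ) g) (r : R) :
    pval p P f R r (extFun (cn R) (η : cn R → ℂ)) = lam r := by
  have hn := congrArg (fun x : ℝ => (x : ℂ)) hReg.norm
  rw [regSq_eq] at hn
  push_cast at hn
  have hC : (Nat.card (cn R) : ℂ) ≠ 0 := Nat.cast_ne_zero.2 Nat.card_pos.ne'
  rw [pval, Finset.sum_congr rfl fun s hs => by
    rw [hlam r s, hReg.eq_reg η hη s (mem_regSet.1 hs), mul_assoc, Complex.mul_conj'],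
    ← Finset.mul_sum]
  field_simp
  linear_combination hn

/-- Downward induction: the structure of the blocks at the nontrivial subgroups. -/
theorem main (h : Setting p M B P f) :
    ∀ {R : Subgroup G}, R ≤ P → R ≠ ⊥ → Reg p P f R ∧ Lin p P f (eps p P f) R (eps p P f R) := by
  intro R
  induction R using (wellFounded_gt (α := Subgroup G)).induction with
  | _ R ih =>
    intro hR hR1
    have hup : ∀ {S}, R < S → S ≤ P →
        Reg p P f S ∧ Lin p P f (eps p P f) S (eps p P f S) := fun hRS hSP =>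
      ih _ hRS hSP fun e => hR1 (eq_bot_iff.2 (e ▸ hRS.le))
    haveI : IsMulCommutative P := ⟨⟨fun a b => Subtype.ext (h.comm a a.2 b b.2)⟩⟩
    haveI := Fintype.ofFinite P
    haveI : Finite (P →* ℂˣ) := Nat.finite_of_card_ne_zero (by
      rw [Chars.card_monoidHom_units]; exact Subgroup.index_ne_zero_of_finite)
    haveI := Fintype.ofFinite (P →* ℂˣ)
    set R' := R.subgroupOf P with hR'
    have hcardR : Nat.card R' = Nat.card R := Nat.card_congr (Subgroup.subgroupOfEquivOfLe hR).toEquiv
    have hlt : ∀ v : P, (v : G) ∉ R → R < R ⊔ Subgroup.zpowers (v : G) := fun v hv =>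
      lt_of_le_of_ne le_sup_left fun e => hv (e ▸ Subgroup.mem_sup_right (Subgroup.mem_zpowers _))
    have hSP : ∀ v : P, R ⊔ Subgroup.zpowers (v : G) ≤ P := fun v =>
      sup_le hR (Subgroup.zpowers_le.2 v.2)
    set W : IrrCharacter (cn R) → Subgroup G → P → ℂ := fun η S v =>
      eps p P f S * pval p P f S v (extFun (cn R) (η : cn R → ℂ)) with hW
    set Φ : IrrCharacter (cn R) → P → ℂ := fun η => glue P R (W η) with hΦ
    have hΦgen : ∀ η, Φ η ∈ genChar P := by
      intro η
      refine glue_mem _ fun S hRS hSP' => ?_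
      refine h.genChar_of_lin hSP' (fun T hST hTP => (hup (hRS.trans_le hST) hTP).1)
        (hup hRS hSP').2 ?_
      have := Chars.isCharacter_comp (Chars.isCharacter_coe η) (Subgroup.inclusion (cn_anti hRS.le))
      rw [show (fun g : cn S => extFun (cn R) (η : cn R → ℂ) (g : G)) =
        fun g : cn S => (η : cn R → ℂ) (Subgroup.inclusion (cn_anti hRS.le) g) from
          funext fun g => extFun_of_mem _ (cn_anti hRS.le g.2)]
      exact this
    have hΦoff : ∀ η, ∀ v : P, (v : G) ∉ R →
        ‖Φ η v‖ ^ 2 = dgn p P f (R ⊔ Subgroup.zpowers (v : G)) v (extFun (cn R) (η : cn R → ℂ)) := by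
      intro η v hv
      simp only [hΦ]
      rw [glue_apply_of_not_mem hR hv]
      simp only [hW]
      rw [norm_mul, norm_eps, one_mul,
        h.dgn_eq (hSP v) (hup (hlt v hv) (hSP v)).1 (isClassFunction_part (h.le_cn hR v.2) η)]
    set O := Finset.univ.filter (fun v : P => v ∉ R') with hO
    have hOmem : ∀ {v : P}, v ∈ O ↔ (v : G) ∉ R := by
      intro v
      simp [hO, hR', Subgroup.mem_subgroupOf]
    set c : IrrCharacter (cn R) → ℝ := fun η =>
      (Nat.card P : ℝ) / (Nat.card (cn R) : ℝ) * regSq p (η : cn R → ℂ) with hc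
    have hbound : ∀ η, ∑ v ∈ O, ‖Φ η v‖ ^ 2 + (Nat.card R : ℝ) * c η ≤ Nat.card P := by
      intro η
      refine le_trans (le_of_eq ?_) (h.sum_dgn_le hR hR1 η)
      congr 1
      refine Finset.sum_bij (fun v _ => (v : G)) (fun v hv => ?_)
        (fun _ _ _ _ e => by exact Subtype.ext e) (fun v hv => ?_)
        fun v hv => hΦoff η v (hOmem.1 hv)
      · simp only [Finset.mem_filter, Finset.mem_univ, true_and]
        exact ⟨v.2, hOmem.1 hv⟩
      · simp only [Finset.mem_filter, Finset.mem_univ, true_and] at hv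
        exact ⟨⟨v, hv.1⟩, hOmem.2 hv.2, rfl⟩
    have hlow : ∀ η ∈ bl p P f R, (Nat.card P : ℝ) - Nat.card R ≤ ∑ v ∈ O, ‖Φ η v‖ ^ 2 := by
      intro η hη
      by_cases hall : ∀ v : P, (v : G) ∈ R
      · have : (Nat.card P : ℝ) ≤ Nat.card R :=
          Nat.cast_le.2 (Subgroup.card_le_of_le fun x hx => hall ⟨x, hx⟩)
        linarith [Finset.sum_nonneg (s := O) fun v _ => sq_nonneg ‖Φ η v‖]
      push Not at hall
      obtain ⟨v, hv⟩ := hall
      have h2 := (norm_off_cases R' (hΦgen η) ⟨v, hv, fun h0 => ?_⟩).1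
      · rwa [hcardR, ← Nat.card_eq_fintype_card] at h2
      · have h3 := hΦoff η v hv
        rw [h0, norm_zero, zero_pow two_ne_zero] at h3
        exact h.dgn_ne_zero hR v.2 hη h3.symm
    have hRpos : (0 : ℝ) < Nat.card R := Nat.cast_pos.2 Nat.card_pos
    have hc1 : ∀ η ∈ bl p P f R, c η = 1 := fun η hη =>
      le_antisymm (by nlinarith [hbound η, hlow η hη]) (h.one_le_scale hR hη)
    have hup' : ∀ η ∈ bl p P f R, ∑ v ∈ O, ‖Φ η v‖ ^ 2 ≤
        (Fintype.card P : ℝ) - Nat.card R' := by
      intro η hη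
      rw [hcardR, ← Nat.card_eq_fintype_card]
      have := hbound η
      rw [hc1 η hη] at this
      linarith
    have hsign : ∀ η ∈ bl p P f R, (∃ v : P, (v : G) ∉ R) → ∃ δ : ℤ, (δ = 1 ∨ δ = -1) ∧
        ∃ ψ : P →* ℂˣ, ∀ v : P, v ∉ R' → Φ η v = (δ : ℂ) * (ψ v : ℂ) := by
      rintro η hη ⟨v, hv⟩
      refine (norm_off_cases R' (hΦgen η) ⟨v, hv, fun h0 => ?_⟩).2 (hup' η hη)
      have h3 := hΦoff η v hv
      rw [h0, norm_zero, zero_pow two_ne_zero] at h3
      exact h.dgn_ne_zero hR v.2 hη h3.symm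
    -- rank one
    have hcol : ((bl p P f R).toFinite.toFinset.card : ℝ) =
        (Nat.card P : ℝ) * blockRank p (bl p P f R) := by
      have h1 := h.sum_dgn hR P.one_mem
      rw [Subgroup.zpowers_one_eq_bot, sup_bot_eq] at h1
      rw [← h1, Finset.sum_congr rfl (g := fun _ => (1 : ℝ)) fun η hη => ?_,
        Finset.sum_const, nsmul_eq_mul, mul_one]
      rw [Set.Finite.mem_toFinset] at hη
      rw [← hc1 η hη, dgn, hc]
      congr 2
      rw [part]
      rw [show (fun s : cn R => extFun (cn R) (η : cn R → ℂ) (1 * (s : G))) = (η : cn R → ℂ) from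
        funext fun s => by rw [one_mul, extFun_of_mem _ s.2], blockPart_of_mem hη]
    have hrank : blockRank p (bl p P f R) = 1 := by
      by_cases hall : ∀ v : P, (v : G) ∈ R
      · obtain rfl : R = P := le_antisymm hR fun x hx => hall ⟨x, hx⟩
        exact blockRank_eq_one_of_central_defect h.hM (h.blk le_rfl) h.subgroupOf_le_center
          h.isDefectGroup_bl_self
      push Not at hall
      obtain ⟨v, hv⟩ := hall
      have h1 := h.sum_dgn hR v.2
      rw [(hup (hlt v hv) (hSP v)).1.rank, Nat.cast_one, mul_one,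
        Finset.sum_congr rfl (g := fun _ => (1 : ℝ)) fun η hη => ?_, Finset.sum_const,
        nsmul_eq_mul, mul_one, hcol] at h1
      · exact_mod_cast mul_left_cancel₀ (Nat.cast_ne_zero.2 Nat.card_pos.ne')
          (h1.trans (mul_one _).symm)
      rw [Set.Finite.mem_toFinset] at hη
      rw [← hΦoff η v hv]
      obtain ⟨δ, hδ, ψ, hψ⟩ := hsign η hη ⟨v, hv⟩
      rw [hψ v hv, norm_mul]
      have hψ1 : ‖(ψ v : ℂ)‖ = 1 := by
        refine (Complex.norm_eq_one_of_pow_eq_one (n := orderOf v) ?_ (orderOf_pos v).ne')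
        rw [← Units.val_pow_eq_pow_val, ← map_pow, pow_orderOf_eq_one, map_one, Units.val_one]
      rcases hδ with rfl | rfl <;> simp [hψ1]
    -- one function
    obtain ⟨θ, hθ, hrep⟩ := h.exists_rep hR
    have heq : ∀ η ∈ bl p P f R, ∀ s : cn R, IsPRegular p s →
        (η : cn R → ℂ) s = rep p P f R s := by
      intro η hη
      have hmem : ∀ ξ ∈ bl p P f R, pRegularPart p (ξ : cn R → ℂ) ∈ KLSum.regSpan p (bl p P f R) :=
        fun ξ hξ => Submodule.subset_span ⟨ξ, hξ, rfl⟩
      have hne : (⟨_, hmem θ hθ⟩ : KLSum.regSpan p (bl p P f R)) ≠ 0 := fun e => by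
        have := congrFun (congrArg Subtype.val e) 1
        simp [pRegularPart, h.isPRegular_one, Chars.map_one_ne_zero θ] at this
      obtain ⟨t, ht⟩ := (finrank_eq_one_iff_of_nonzero' _ hne).1
        (by rw [← KLSum.blockRank_eq_finrank]; exact hrank) ⟨_, hmem η hη⟩
      have hval : ∀ s : cn R, IsPRegular p s → (η : cn R → ℂ) s = t * (θ : cn R → ℂ) s := by
        intro s hs
        have := congrFun (congrArg Subtype.val ht) s
        simpa [pRegularPart, hs] using this.symm
      have hn : ‖t‖ = 1 := by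
        have h1 := hc1 η hη
        have e : regSq p (η : cn R → ℂ) = ‖t‖ ^ 2 * regSq p (θ : cn R → ℂ) := by
          rw [regSq_eq, regSq_eq, Finset.mul_sum]
          exact Finset.sum_congr rfl fun s hs => by
            rw [hval s (mem_regSet.1 hs), norm_mul, mul_pow]
        have h2 := hc1 θ hθ
        simp only [hc] at h1 h2
        rw [e, mul_left_comm, h2, mul_one] at h1
        exact (pow_eq_one_iff_of_nonneg (norm_nonneg t) two_ne_zero).1 h1
      have h1 := hval 1 h.isPRegular_one
      rw [← Chars.coe_charDegree, ← Chars.coe_charDegree] at h1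
      have hθ1 : (0 : ℝ) < charDegree (θ : cn R → ℂ) := Nat.cast_pos.2 (Chars.charDegree_pos θ)
      have ht1 : t = (((charDegree (η : cn R → ℂ) : ℝ) / charDegree (θ : cn R → ℂ) : ℝ) : ℂ) := by
        push_cast
        rw [eq_div_iff (Nat.cast_ne_zero.2 (Chars.charDegree_pos θ).ne')]
        exact h1.symm
      have hone : t = 1 := by
        rw [ht1, Complex.norm_real, Real.norm_of_nonneg (by positivity)] at hn
        rw [ht1, hn, Complex.ofReal_one]
      intro s hs
      rw [hval s hs, hone, one_mul, hrep]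
    have hReg : Reg p P f R := by
      refine ⟨heq, ?_, hrank⟩
      have h1 := hc1 θ hθ
      rw [hc] at h1
      field_simp at h1
      rw [hrep]
      linarith
    refine ⟨hReg, ?_⟩
    have hlam : ∀ η : IrrCharacter (cn R), ∃ lam : R →* ℂˣ, ∀ (r : R) (g : cn R),
        extFun (cn R) (η : cn R → ℂ) ((r : G) * g) = (lam r : ℂ) * (η : cn R → ℂ) g :=
      h.exists_actHom hR
    choose lam hlam using hlam
    have hin : ∀ η ∈ bl p P f R, ∀ v : P, ∀ hv : (v : G) ∈ R,
        pval p P f R v (extFun (cn R) (η : cn R → ℂ)) = lam η ⟨v, hv⟩ := fun η hη v hv =>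
      h.pval_apply_of_mem hR hReg hη (hlam η) ⟨v, hv⟩
    by_cases hall : ∀ v : P, (v : G) ∈ R
    · -- `R = P`
      have hl : Lin p P f (eps p P f) R 1 := fun η hη =>
        ⟨(lam η).comp (Subgroup.inclusion fun x hx => hall ⟨x, hx⟩),
          fun v => ⟨fun hv => by rw [hin η hη v hv]; rfl, fun hv => absurd (hall v) hv⟩⟩
      rw [eps_eq, if_pos hl]
      exact hl
    push Not at hall
    have hR'top : R' ≠ ⊤ := by
      obtain ⟨v, hv⟩ := hall
      exact fun e => hv (Subgroup.mem_subgroupOf.1 (e ▸ Subgroup.mem_top v : v ∈ R'))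
    set W₀ : Subgroup G → P → ℂ := fun S _ =>
      eps p P f S * pval p P f S 1 (extFun (cn R) (θ : cn R → ℂ)) with hW₀
    have hK : ∀ η : {η // η ∈ bl p P f R}, ∀ r : R',
        Φ η r = glue P R W₀ 1 * (((lam η.1).comp
          (Subgroup.subgroupOfEquivOfLe hR).toMonoidHom) r : ℂ) := by
      rintro ⟨η, hη⟩ r
      have hr : ((r : P) : G) ∈ R := Subgroup.mem_subgroupOf.1 r.2
      have hg := glue_mul_eq (P := P) (R := R) (W := W η) (W' := W₀) (v := (r : P)) (v' := 1)
        (a := (lam η ⟨_, hr⟩ : ℂ)) (a' := 1) hr R.one_mem fun S hRS hSP' => ?_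
      · rw [one_mul] at hg
        rw [hΦ, mul_comm (glue P R W₀ 1)]
        exact hg
      · have hsum : ∑ s ∈ regSet p (cn S),
            extFun (cn R) (η : cn R → ℂ) (((r : P) : G) * (s : G)) * conj (rep p P f S s) =
            (lam η ⟨_, hr⟩ : ℂ) * ∑ s ∈ regSet p (cn S),
              extFun (cn R) (θ : cn R → ℂ) (1 * (s : G)) * conj (rep p P f S s) := by
          rw [Finset.mul_sum]
          refine Finset.sum_congr rfl fun s hs => ?_
          have hsR := cn_anti hRS.le s.2
          have hreg : IsPRegular p (⟨(s : G), hsR⟩ : cn R) := by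
            have := mem_regSet.1 hs
            rw [IsPRegular, ← Subgroup.orderOf_coe] at this
            rwa [IsPRegular, Subgroup.orderOf_mk]
          rw [one_mul, extFun_of_mem (θ : cn R → ℂ) hsR,
            show extFun (cn R) (η : cn R → ℂ) (((r : P) : G) * (s : G)) = _ from
              hlam η ⟨_, hr⟩ ⟨_, hsR⟩, heq η hη _ hreg, hrep, mul_assoc]
        simp only [hW, hW₀, pval, OneMemClass.coe_one]
        rw [hsum]
        ring
    obtain ⟨δ, hδ, hψ⟩ := exists_common_sign hR'top (Φ := fun η : {η // η ∈ bl p P f R} => Φ η)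
      (fun η => hΦgen η.1) _ hK fun η => hsign η.1 η.2 hall
    have hl : Lin p P f (eps p P f) R (δ : ℂ) := by
      intro η hη
      obtain ⟨ψ, hψin, hψoff⟩ := hψ ⟨η, hη⟩
      refine ⟨ψ, fun v => ⟨fun hv => ?_, fun hv => ?_⟩⟩
      · have := hψin ⟨v, Subgroup.mem_subgroupOf.2 hv⟩
        rw [hin η hη v hv]
        exact congrArg Units.val this
      · rw [← hψoff v (fun h' => hv (Subgroup.mem_subgroupOf.1 h'))]
        simp only [hΦ]
        rw [glue_apply_of_not_mem hR hv]
    rw [eps_eq]
    by_cases h1 : Lin p P f (eps p P f) R 1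
    · rwa [if_pos h1]
    · rw [if_neg h1]
      rcases hδ with rfl | rfl
      · exact absurd (by simpa using hl) h1
      · simpa using hl

end Setting

end CfsgLib.Blocks.AbelianFree
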