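import Cfsg.Agent.Blocks.AbelianFree.Setting
import Cfsg.Agent.Chars.Basic.Restrict
import Cfsg.Agent.Blocks.KLSum.UnionRank

/-!
# The parts of a function in the local blocks

For `η` in the block of the centralizer of `R` and `v ∈ P` the part of `η` in the block of the
centralizer of `R ⊔ ⟨v⟩` on the section of `v`: the second main theorem, the column norms, and the
bound by the norm of `η`.
-/

set_option autoImplicit false
open scoped MonoidAlgebra ComplexConjugate Classical
open Cfsg CfsgLib CfsgLib.Blocks CfsgLib.Blocks.HeightZero CfsgLib.Blocks.Contrib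

namespace CfsgLib.Blocks.AbelianFree

universe u

variable {G : Type u} [Group G] [Fintype G] {p : ℕ} {M : Ideal AlgInt} [M.IsMaximal]

/-- A function on a subgroup, extended by zero. -/
noncomputable def extFun (H : Subgroup G) (η : H → ℂ) : G → ℂ := fun g =>
  if h : g ∈ H then η ⟨g, h⟩ else 0

omit [Fintype G] in
theorem extFun_of_mem {H : Subgroup G} (η : H → ℂ) {g : G} (h : g ∈ H) :
    extFun H η g = η ⟨g, h⟩ := dif_pos h

/-- The part in a block of a subgroup of a translate. -/
noncomputable def part {K : Subgroup G} (β : Set (IrrCharacter K)) (v : G) (F : G → ℂ) : K → ℂ :=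
  blockPart β fun s : K => F (v * (s : G))

/-- The squared norm of a part on the regular elements. -/
noncomputable def regSq (p : ℕ) {K : Subgroup G} (φ : K → ℂ) : ℝ :=
  haveI := Fintype.ofFinite K
  ∑ s ∈ regSet p K, ‖φ s‖ ^ 2

omit [M.IsMaximal] in
theorem regSq_eq {K : Subgroup G} [Fintype K] (φ : K → ℂ) :
    regSq p φ = ∑ s ∈ regSet p K, ‖φ s‖ ^ 2 := by
  unfold regSq
  convert rfl

omit [M.IsMaximal] in
theorem regSq_nonneg {K : Subgroup G} (φ : K → ℂ) : 0 ≤ regSq p φ := by
  haveI := Fintype.ofFinite K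
  rw [regSq_eq]
  exact Finset.sum_nonneg fun s _ => sq_nonneg _

/-- The squared norm of a part, normalised by the order of `P`. -/
noncomputable def dgn (p : ℕ) (P : Subgroup G) (f : MonoidAlgebra (kres M) G) (S : Subgroup G)
    (v : G) (F : G → ℂ) : ℝ :=
  (Nat.card P : ℝ) / (Nat.card (cn S) : ℝ) * regSq p (part (bl p P f S) v F)

/-- The centralizer of a subgroup and an element. -/
theorem mem_cn_sup {R : Subgroup G} {v g : G} :
    g ∈ cn (R ⊔ Subgroup.zpowers v) ↔ g ∈ cn R ∧ g * v = v * g := by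
  refine ⟨fun h => ⟨cn_anti le_sup_left h, ?_⟩, fun h => ?_⟩
  · exact (Subgroup.mem_centralizer_iff.1 h v (Subgroup.mem_sup_right (Subgroup.mem_zpowers v))).symm
  · have h' : R ⊔ Subgroup.zpowers v ≤ Subgroup.centralizer ({g} : Set G) :=
      sup_le (le_centralizer_singleton_of_mem h.1) (Subgroup.zpowers_le.2
        (Subgroup.mem_centralizer_singleton_iff.2 h.2.symm))
    exact mem_centralizer_of_le_centralizer_singleton h'

/-- Block parts of isomorphic groups have the same norm. -/
theorem sum_regSet_mapBlock {K K' : Type u} [Group K] [Fintype K] [Group K'] [Fintype K']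
    (φ : K ≃* K') (b : Set (IrrCharacter K)) (F : K' → ℂ) :
    ∑ s ∈ regSet p K', ‖blockPart (mapBlock φ b) F s‖ ^ 2 =
      ∑ s ∈ regSet p K, ‖blockPart b (fun k => F (φ k)) s‖ ^ 2 := by
  refine (Finset.sum_equiv φ.toEquiv (fun s => ?_) fun s _ => ?_).symm
  · simp only [mem_regSet, IsPRegular, MulEquiv.toEquiv_eq_coe, EquivLike.coe_coe,
      MulEquiv.orderOf_eq]
  · rw [MulEquiv.toEquiv_eq_coe, EquivLike.coe_coe, HeightCenter.blockPart_mapBlock]

omit [M.IsMaximal] in
theorem blockDefect_mapBlock {K K' : Type u} [Group K] [Finite K] [Group K'] [Finite K']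
    (φ : K ≃* K') (b : Set (IrrCharacter K)) :
    blockDefect p (mapBlock φ b) = blockDefect p b := by
  rw [blockDefect, blockDefect, Nat.card_congr φ.symm.toEquiv, mapBlock, Set.image_image]
  simp only [Chars.charDegree_irrEquiv]

/-- A central element of finite order acts by a root of unity. -/
theorem norm_apply_center_mul {K : Type u} [Group K] [Finite K] (η : IrrCharacter K) {z : K}
    (hz : z ∈ Subgroup.center K) (g : K) :
    ‖(η : K → ℂ) (z * g)‖ = ‖(η : K → ℂ) g‖ := by
  obtain ⟨c, hc⟩ := Chars.exists_scalar_of_mem_center η hz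
  have hpow : ∀ (j : ℕ) (g : K), (η : K → ℂ) (z ^ j * g) = c ^ j * (η : K → ℂ) g := by
    intro j
    induction j with
    | zero => intro g; simp
    | succ j ih => intro g; rw [pow_succ, mul_assoc, ih, hc, pow_succ, mul_assoc]
  have h1 := hpow (orderOf z) 1
  rw [pow_orderOf_eq_one, one_mul] at h1
  have h2 : c ^ orderOf z = 1 := mul_right_cancel₀ (Chars.map_one_ne_zero η) (by rw [one_mul]; exact h1.symm)
  have h3 := congrArg norm h2
  rw [norm_pow, norm_one] at h3
  rw [hc, norm_mul, (pow_eq_one_iff_of_nonneg (norm_nonneg _) (orderOf_pos z).ne').1 h3, one_mul]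

/-- The linear character by which a central subgroup acts. -/
theorem exists_centralHom {K : Type u} [Group K] [Finite K] (η : IrrCharacter K) :
    ∃ lam : Subgroup.center K →* ℂˣ, ∀ (z : Subgroup.center K) (g : K),
      (η : K → ℂ) ((z : K) * g) = (lam z : ℂ) * (η : K → ℂ) g := by
  have h0 : ∀ z : Subgroup.center K, (η : K → ℂ) (z : K) / (η : K → ℂ) 1 ≠ 0 := by
    intro z h
    have := Chars.map_mul_of_mem_center η z.2 (z : K)⁻¹
    rw [h, zero_mul, mul_inv_cancel] at this
    exact Chars.map_one_ne_zero η this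
  refine ⟨⟨⟨fun z => Units.mk0 _ (h0 z), Units.ext ?_⟩, fun z w => Units.ext ?_⟩, fun z g =>
    Chars.map_mul_of_mem_center η z.2 g⟩
  · simp [div_self (Chars.map_one_ne_zero η)]
  · simp only [Units.val_mk0, Units.val_mul, Subgroup.coe_mul]
    rw [Chars.map_mul_of_mem_center η z.2 (w : K)]
    ring

/-- Induction data of a centralizer inside a centralizer. -/
theorem subgroupOf_cn_eq {R : Subgroup G} {v : G} (hvR : v ∈ cn R) :
    (cn (R ⊔ Subgroup.zpowers v)).subgroupOf (cn R) =
      Subgroup.centralizer ({⟨v, hvR⟩} : Set (cn R)) := by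
  ext y
  rw [Subgroup.mem_subgroupOf, mem_cn_sup, Subgroup.mem_centralizer_singleton_iff, Subtype.ext_iff,
    Subgroup.coe_mul, Subgroup.coe_mul]
  exact and_iff_right y.2

namespace Setting

variable [Fact p.Prime] [CharP (kres M) p] {B : Set (IrrCharacter G)} {P : Subgroup G}
  {f : MonoidAlgebra (kres M) G}

omit [CharP (kres M) p] in
theorem orderOf_pow (h : IsPGroup p P) {v : G} (hv : v ∈ P) : ∃ e, orderOf v = p ^ e := by
  obtain ⟨k, hk⟩ := IsPGroup.iff_orderOf.1 h ⟨v, hv⟩
  exact ⟨k, by rwa [Subgroup.orderOf_mk] at hk⟩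

variable {R : Subgroup G} {v : G}

theorem natCard_eq (h : Setting p M B P f) : Nat.card P = p ^ blockDefect p B :=
  Contrib.natCard_defectGroup h.hM h.hB h.defect

/-- The second main theorem inside the centralizer of `R`. -/
theorem part_eq_zero (h : Setting p M B P f) (hR : R ≤ P) (hv : v ∈ P)
    {η : IrrCharacter (cn R)} (hη : η ∉ bl p P f R) :
    ∀ {s : cn (R ⊔ Subgroup.zpowers v)}, IsPRegular p s →
      part (bl p P f (R ⊔ Subgroup.zpowers v)) v (extFun (cn R) (η : cn R → ℂ)) s = 0 := by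
  have hvR : v ∈ cn R := h.le_cn hR hv
  set S := R ⊔ Subgroup.zpowers v
  have hS : S ≤ P := sup_le hR (Subgroup.zpowers_le.2 hv)
  have hle : cn S ≤ cn R := cn_anti le_sup_left
  set φ : cn S ≃* (cn S).subgroupOf (cn R) := (Subgroup.subgroupOfEquivOfLe hle).symm with hφ
  haveI := Fintype.ofFinite (cn R)
  haveI := Fintype.ofFinite ((cn S).subgroupOf (cn R))
  obtain ⟨e, he⟩ := orderOf_pow h.isPGroup hv
  have hind := (isInducedBlockIn_iff_subgroupOf hle (h.blk hS)).mp
    (h.inducedIn (le_sup_left : R ≤ S) hS)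
  intro s hs
  have h0 := blockPart_section_eq_zero h.hM (subgroupOf_cn_eq hvR)
    ⟨e, by rw [Subgroup.orderOf_mk, he]⟩ (isPBlock_mapBlock φ (h.blk hS))
    (B := blockOf M (η : cn R → ℂ)) ⟨η, rfl⟩
    (fun hc => hη (by rw [isInducedBlock_unique h.hM hind hc]; exact self_mem_blockOf η))
    (self_mem_blockOf η) (s := φ s) (by rwa [IsPRegular, MulEquiv.orderOf_eq])
  rw [HeightCenter.blockPart_mapBlock] at h0
  rw [part, ← h0]
  congr 1
  funext k
  rw [extFun_of_mem _ ((cn R).mul_mem hvR (hle k.2))]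
  rfl

/-- The norm of a part is a diagonal contribution inside the centralizer of `R`. -/
theorem dgn_eq_diagC (h : Setting p M B P f) (hR : R ≤ P) (hv : v ∈ P) (η : IrrCharacter (cn R))
    (hle : cn (R ⊔ Subgroup.zpowers v) ≤ cn R) :
    dgn p P f (R ⊔ Subgroup.zpowers v) v (extFun (cn R) (η : cn R → ℂ)) =
      HeightCenter.diagC p (mapBlock (Subgroup.subgroupOfEquivOfLe hle).symm
        (bl p P f (R ⊔ Subgroup.zpowers v))) (⟨v, h.le_cn hR hv⟩ : cn R) η := by
  have hvR : v ∈ cn R := h.le_cn hR hv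
  set S := R ⊔ Subgroup.zpowers v
  have hS : S ≤ P := sup_le hR (Subgroup.zpowers_le.2 hv)
  set φ : cn S ≃* (cn S).subgroupOf (cn R) := (Subgroup.subgroupOfEquivOfLe hle).symm with hφ
  haveI := Fintype.ofFinite (cn S)
  haveI := Fintype.ofFinite ((cn S).subgroupOf (cn R))
  rw [dgn, HeightCenter.diagC, blockDefect_mapBlock, h.defect_eq hS, h.natCard_eq, Nat.cast_pow,
    Nat.card_congr φ.toEquiv, regSq_eq, HeightCenter.secNorm_eq]
  simp only [sectPart]
  rw [sum_regSet_mapBlock]
  congr 1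
  refine Finset.sum_congr rfl fun s _ => ?_
  rw [part]
  congr 3
  funext k
  rw [extFun_of_mem _ ((cn R).mul_mem hvR (hle k.2))]
  rfl

/-- The column norm. -/
theorem sum_dgn (h : Setting p M B P f) (hR : R ≤ P) (hv : v ∈ P) :
    ∑ η ∈ (bl p P f R).toFinite.toFinset,
      dgn p P f (R ⊔ Subgroup.zpowers v) v (extFun (cn R) (η : cn R → ℂ)) =
      (Nat.card P : ℝ) * blockRank p (bl p P f (R ⊔ Subgroup.zpowers v)) := by
  have hvR : v ∈ cn R := h.le_cn hR hv
  have hS : (R ⊔ Subgroup.zpowers v) ≤ P := sup_le hR (Subgroup.zpowers_le.2 hv)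
  have hle : cn (R ⊔ Subgroup.zpowers v) ≤ cn R := cn_anti le_sup_left
  haveI := Fintype.ofFinite ((cn (R ⊔ Subgroup.zpowers v)).subgroupOf (cn R))
  obtain ⟨e, he⟩ := orderOf_pow h.isPGroup hv
  have hind := (isInducedBlockIn_iff_subgroupOf hle (h.blk hS)).mp
    (h.inducedIn (le_sup_left : R ≤ R ⊔ Subgroup.zpowers v) hS)
  have hsum := sum_contrib_self h.hM (subgroupOf_cn_eq hvR) ⟨e, by rw [Subgroup.orderOf_mk, he]⟩ hind
  rw [KLSum.blockRank_mapBlock, blockDefect_mapBlock, h.defect_eq hS] at hsum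
  apply Complex.ofReal_injective
  rw [Complex.ofReal_sum, Finset.sum_congr rfl fun η _ => by
    rw [h.dgn_eq_diagC hR hv η hle, HeightCenter.coe_diagC], hsum, h.natCard_eq]
  push_cast
  rfl

/-- The major subsections see every character. -/
theorem dgn_ne_zero (h : Setting p M B P f) (hR : R ≤ P) (hv : v ∈ P) {η : IrrCharacter (cn R)}
    (hη : η ∈ bl p P f R) :
    dgn p P f (R ⊔ Subgroup.zpowers v) v (extFun (cn R) (η : cn R → ℂ)) ≠ 0 := by
  have hvR : v ∈ cn R := h.le_cn hR hv
  have hS : (R ⊔ Subgroup.zpowers v) ≤ P := sup_le hR (Subgroup.zpowers_le.2 hv)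
  have hle : cn (R ⊔ Subgroup.zpowers v) ≤ cn R := cn_anti le_sup_left
  haveI := Fintype.ofFinite ((cn (R ⊔ Subgroup.zpowers v)).subgroupOf (cn R))
  obtain ⟨e, he⟩ := orderOf_pow h.isPGroup hv
  have hind := (isInducedBlockIn_iff_subgroupOf hle (h.blk hS)).mp
    (h.inducedIn (le_sup_left : R ≤ R ⊔ Subgroup.zpowers v) hS)
  obtain ⟨y, -, -, hne⟩ := HeightCenter.exists_diag_scale h.hM (subgroupOf_cn_eq hvR) (k := e)
    (u := (⟨v, hvR⟩ : cn R))
    (Subtype.ext (by rw [SubgroupClass.coe_pow, ← he, pow_orderOf_eq_one]; rfl)) hind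
    (by rw [blockDefect_mapBlock, h.defect_eq hS, h.defect_eq hR]) hη
  intro h0
  apply hne
  rw [← HeightCenter.coe_diagC, ← h.dgn_eq_diagC hR hv η hle, h0, Complex.ofReal_zero]

/-- The norms of the parts off `R` and of the regular part fit into the norm. -/
theorem sum_dgn_le (h : Setting p M B P f) (hR : R ≤ P) (hR1 : R ≠ ⊥) (η : IrrCharacter (cn R)) :
    ∑ v ∈ Finset.univ.filter (fun v : G => v ∈ P ∧ v ∉ R),
        dgn p P f (R ⊔ Subgroup.zpowers v) v (extFun (cn R) (η : cn R → ℂ)) +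
      (Nat.card R : ℝ) * ((Nat.card P : ℝ) / (Nat.card (cn R) : ℝ) * regSq p (η : cn R → ℂ)) ≤
      (Nat.card P : ℝ) := by
  haveI := Fintype.ofFinite (cn R)
  set F := extFun (cn R) (η : cn R → ℂ) with hF
  set Z := Finset.univ.filter (fun v : G => v ∈ P ∧ v ∉ R) with hZ
  have hZm : ∀ v, v ∈ Z ↔ v ∈ P ∧ v ∉ R := fun v => by simp [hZ]
  have hFconj : ∀ x ∈ cn R, ∀ g ∈ cn R, F (x * g * x⁻¹) = F g := by
    intro x hx g hg
    rw [hF, extFun_of_mem _ ((cn R).mul_mem ((cn R).mul_mem hx hg) ((cn R).inv_mem hx)),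
      extFun_of_mem _ hg]
    exact Chars.isClassFunction_coe η ⟨g, hg⟩ ⟨x, hx⟩
  -- weights
  let W : G → ℝ := fun x => ∑ y ∈ Finset.univ.filter
    (fun y : G => y ∈ cn R ∧ y * x = x * y ∧ IsPRegular p y), ‖F (x * y)‖ ^ 2
  set X := Finset.univ.filter (fun x : G => x ∈ cn R ∧ ∃ k, orderOf x = p ^ k) with hX
  have htot : ∑ x ∈ X, W x ≤ (Nat.card (cn R) : ℝ) := by
    calc ∑ x ∈ X, W x = ∑ g ∈ (X.sigma fun x => Finset.univ.filter
          (fun y : G => y ∈ cn R ∧ y * x = x * y ∧ IsPRegular p y)).image (fun a => a.1 * a.2),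
          ‖F g‖ ^ 2 := by
          rw [Finset.sum_image, Finset.sum_sigma]
          intro a ha b hb hab
          simp only [Finset.coe_sigma, Set.mem_sigma_iff, Finset.mem_coe, Finset.mem_filter,
            Finset.mem_univ, true_and, hX] at ha hb
          have h1 : IsPPart p (a.1 * a.2) a.1 := ⟨a.2, rfl, ha.2.2.1.symm, ha.1.2, ha.2.2.2⟩
          have h2 : IsPPart p (a.1 * a.2) b.1 := ⟨b.2, hab.symm, hb.2.2.1.symm, hb.1.2, hb.2.2.2⟩
          have h3 := isPPart_unique h.hM.1 h1 h2
          obtain ⟨a₁, a₂⟩ := a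
          obtain ⟨b₁, b₂⟩ := b
          simp only at hab h3 ⊢
          subst h3
          rw [mul_left_cancel hab]
      _ ≤ ∑ g ∈ Finset.univ.filter (fun g : G => g ∈ cn R), ‖F g‖ ^ 2 := by
          refine Finset.sum_le_sum_of_subset_of_nonneg (fun g hg => ?_) fun g _ _ => sq_nonneg _
          obtain ⟨a, ha, rfl⟩ := Finset.mem_image.1 hg
          simp only [Finset.mem_sigma, hX, Finset.mem_filter, Finset.mem_univ, true_and] at ha ⊢
          exact (cn R).mul_mem ha.1.1 ha.2.1
      _ = ∑ g : cn R, ‖(η : cn R → ℂ) g‖ ^ 2 := by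
          rw [Finset.sum_subtype _ (p := fun g : G => g ∈ cn R) (by simp)]
          exact Finset.sum_congr rfl fun g _ => by rw [hF, extFun_of_mem _ g.2]
      _ = _ := Chars.GaloisSum.sum_norm_sq_of_isIrrCharacter η.2
  -- the elements of `R`
  have hRX : ∀ r, r ∈ R → r ∈ X := fun r hr => by
    simp only [hX, Finset.mem_filter, Finset.mem_univ, true_and]
    exact ⟨h.le_cn hR (hR hr), orderOf_pow h.isPGroup (hR hr)⟩
  have hRW : ∀ r ∈ R, W r = regSq p (η : cn R → ℂ) := by
    intro r hr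
    rw [regSq_eq]
    refine (Finset.sum_bij (fun (s : cn R) _ => (s : G)) (fun s hs => ?_)
      (fun _ _ _ _ h => by exact Subtype.ext h) (fun y hy => ?_) fun s _ => ?_).symm
    · simp only [Finset.mem_filter, Finset.mem_univ, true_and]
      refine ⟨s.2, (Subgroup.mem_centralizer_iff.1 s.2 r hr).symm, ?_⟩
      have h' := mem_regSet.1 hs
      rwa [IsPRegular, ← Subgroup.orderOf_coe] at h'
    · simp only [Finset.mem_filter, Finset.mem_univ, true_and] at hy
      refine ⟨⟨y, hy.1⟩, mem_regSet.2 ?_, rfl⟩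
      rw [IsPRegular, Subgroup.orderOf_mk]
      exact hy.2.2
    · have hrc : (⟨r, h.le_cn hR (hR hr)⟩ : cn R) ∈ Subgroup.center (cn R) :=
        Subgroup.mem_center_iff.2 fun g =>
          Subtype.ext (Subgroup.mem_centralizer_iff.1 g.2 r hr).symm
      rw [hF, extFun_of_mem _ ((cn R).mul_mem (h.le_cn hR (hR hr)) s.2)]
      exact congrArg (· ^ 2) (norm_apply_center_mul η hrc s).symm
  -- the points off `R`
  set U := Z ×ˢ (Finset.univ : Finset (cn R)) with hU
  let e : G → MonoidAlgebra (kres M) G := fun v =>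
    subEl M (cn (R ⊔ Subgroup.zpowers v)) (bl p P f (R ⊔ Subgroup.zpowers v))
  let img : G × cn R → G × MonoidAlgebra (kres M) G := fun a =>
    ((a.2 : G) * a.1 * (a.2 : G)⁻¹, conjA (a.2 : G) (e a.1))
  let V : G × MonoidAlgebra (kres M) G → ℝ := fun w =>
    ∑ β ∈ Finset.univ.filter (fun β : Set (IrrCharacter (cn (R ⊔ Subgroup.zpowers w.1))) =>
      IsPBlock M β ∧ subEl M (cn (R ⊔ Subgroup.zpowers w.1)) β = w.2), regSq p (part β w.1 F)
  have hVW : ∀ x ∈ cn R, ∀ E : Finset (MonoidAlgebra (kres M) G),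
      ∑ e' ∈ E, V (x, e') ≤ W x := by
    intro x hx E
    haveI := Fintype.ofFinite (cn (R ⊔ Subgroup.zpowers x))
    set K := cn (R ⊔ Subgroup.zpowers x) with hK
    have hKR : K ≤ cn R := cn_anti le_sup_left
    calc ∑ e' ∈ E, V (x, e')
        = ∑ β ∈ ((Finset.univ.filter fun β : Set (IrrCharacter K) => IsPBlock M β).filter
            fun β => subEl M K β ∈ E), regSq p (part β x F) := by
          rw [← Finset.sum_fiberwise_eq_sum_filter]
          refine Finset.sum_congr rfl fun e' _ => Finset.sum_congr ?_ fun _ _ => rfl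
          rw [Finset.filter_filter]
      _ ≤ ∑ β ∈ Finset.univ.filter (fun β : Set (IrrCharacter K) => IsPBlock M β),
            regSq p (part β x F) :=
          Finset.sum_le_sum_of_subset_of_nonneg (Finset.filter_subset _ _)
            fun β _ _ => regSq_nonneg _
      _ = ∑ s ∈ regSet p K, ‖F (x * (s : G))‖ ^ 2 := by
          have hfc : IsClassFunction K fun s : K => F (x * (s : G)) := by
            intro g k
            obtain ⟨hk1, hk2⟩ := mem_cn_sup.1 k.2
            show F (x * ((k * g * k⁻¹ : K) : G)) = _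
            push_cast
            rw [show x * ((k : G) * g * (k : G)⁻¹) = (k : G) * (x * g) * (k : G)⁻¹ by
              rw [← mul_assoc, ← mul_assoc, ← hk2]; group]
            exact hFconj _ hk1 _ ((cn R).mul_mem hx (hKR g.2))
          apply Complex.ofReal_injective
          simp only [regSq_eq, part]
          push_cast
          simp only [← Complex.mul_conj']
          rw [Finset.sum_congr rfl fun β hβ =>
            sum_blockPart_mul_conj h.hM (Finset.mem_filter.1 hβ).2 hfc hfc, Finset.sum_comm]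
          refine Finset.sum_congr rfl fun s _ => ?_
          rw [← Finset.sum_mul, ← Finset.sum_apply, HeightCenter.sum_blockPart hfc]
      _ = W x := by
          refine Finset.sum_bij (fun s _ => (s : G)) (fun s hs => ?_)
            (fun _ _ _ _ h => by exact Subtype.ext h) (fun y hy => ?_) fun s _ => rfl
          · simp only [Finset.mem_filter, Finset.mem_univ, true_and]
            obtain ⟨h1, h2⟩ := mem_cn_sup.1 s.2
            refine ⟨h1, h2, ?_⟩
            have h' := mem_regSet.1 hs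
            rwa [IsPRegular, ← Subgroup.orderOf_coe] at h'
          · simp only [Finset.mem_filter, Finset.mem_univ, true_and] at hy
            refine ⟨⟨y, mem_cn_sup.2 ⟨hy.1, hy.2.1⟩⟩, mem_regSet.2 ?_, rfl⟩
            rw [IsPRegular, Subgroup.orderOf_mk]
            exact hy.2.2
  have hmap : ∀ v : G, ∀ x : cn R, (cn (R ⊔ Subgroup.zpowers v)).map (MulAut.conj (x : G)).toMonoidHom =
      cn (R ⊔ Subgroup.zpowers ((x : G) * v * (x : G)⁻¹)) := fun v x => by
    rw [map_conj_centralizer, Subgroup.map_sup, map_conj_eq_of_mem_centralizer x.2,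
      MonoidHom.map_zpowers]
    rfl
  have hpoint : ∀ a ∈ U,
      regSq p (part (bl p P f (R ⊔ Subgroup.zpowers a.1)) a.1 F) ≤ V (img a) := by
    rintro ⟨v, x⟩ ha
    have hv := (hZm v).1 (Finset.mem_product.1 ha).1
    have hS : R ⊔ Subgroup.zpowers v ≤ P := sup_le hR (Subgroup.zpowers_le.2 hv.1)
    refine le_trans (le_of_eq ?_) (Finset.single_le_sum
      (f := fun β => regSq p (part β ((x : G) * v * (x : G)⁻¹) F))
      (fun β _ => regSq_nonneg _) (Finset.mem_filter.2 ⟨Finset.mem_univ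
        (mapBlock (conjIso _ _ (x : G) (hmap v x)) (bl p P f (R ⊔ Subgroup.zpowers v))),
        isPBlock_mapBlock _ (h.blk hS), subEl_mapBlock_conj _ _ _⟩))
    simp only [regSq_eq, part]
    rw [sum_regSet_mapBlock]
    refine Finset.sum_congr rfl fun s _ => ?_
    congr 3
    funext c
    rw [coe_conjIso, show (x : G) * v * (x : G)⁻¹ * ((x : G) * (c : G) * (x : G)⁻¹) =
      (x : G) * (v * (c : G)) * (x : G)⁻¹ by group]
    exact (hFconj _ x.2 _ ((cn R).mul_mem (h.le_cn hR hv.1)
      (cn_anti (le_sup_left : R ≤ R ⊔ Subgroup.zpowers v) c.2))).symm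
  have hfib : ∀ w ∈ U.image img,
      ∑ a ∈ U.filter (fun a => img a = w),
        regSq p (part (bl p P f (R ⊔ Subgroup.zpowers a.1)) a.1 F) /
          (Nat.card (cn (R ⊔ Subgroup.zpowers a.1)) : ℝ) ≤ V w := by
    intro w hw
    obtain ⟨⟨v, x⟩, ha, rfl⟩ := Finset.mem_image.1 hw
    have hv := (hZm v).1 (Finset.mem_product.1 ha).1
    have hsub : ∀ a ∈ U.filter (fun a => img a = img (v, x)),
        a.1 = v ∧ (x : G)⁻¹ * (a.2 : G) ∈ cn (R ⊔ Subgroup.zpowers v) := by
      rintro ⟨v', x'⟩ ha'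
      obtain ⟨hU', he⟩ := Finset.mem_filter.1 ha'
      have hv' := (hZm v').1 (Finset.mem_product.1 hU').1
      simp only [img, Prod.mk.injEq] at he
      obtain ⟨he1, he2⟩ := he
      set y : G := (x : G)⁻¹ * (x' : G) with hy
      have hyv : y * v' * y⁻¹ = v := by
        calc y * v' * y⁻¹ = (x : G)⁻¹ * ((x' : G) * v' * (x' : G)⁻¹) * (x : G) := by rw [hy]; group
          _ = v := by rw [he1]; group
      have hvv : v' = v := h.eq_of_fused hR hR1 hv'.1 hv.1
        ((cn R).mul_mem ((cn R).inv_mem x.2) x'.2) hyv (by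
          rw [← conjA_conjA, he2, conjA_conjA, inv_mul_cancel, conjA_one_left])
      subst hvv
      refine ⟨rfl, mem_cn_sup.2 ⟨(cn R).mul_mem ((cn R).inv_mem x.2) x'.2, ?_⟩⟩
      conv_rhs => rw [← hyv, inv_mul_cancel_right]
    rw [Finset.sum_congr rfl fun a ha' => by
      rw [(hsub a ha').1], Finset.sum_const, nsmul_eq_mul]
    have hcard : ((U.filter fun a => img a = img (v, x)).card : ℝ) ≤
        (Nat.card (cn (R ⊔ Subgroup.zpowers v)) : ℝ) := by
      haveI := Fintype.ofFinite (cn (R ⊔ Subgroup.zpowers v))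
      rw [Nat.cast_le, Nat.card_eq_fintype_card, ← Finset.card_univ]
      refine Finset.card_le_card_of_surjOn (fun c : cn (R ⊔ Subgroup.zpowers v) =>
        (v, x * ⟨(c : G), cn_anti le_sup_left c.2⟩)) fun a ha' => ?_
      obtain ⟨h1, h2⟩ := hsub a ha'
      refine ⟨⟨_, h2⟩, Finset.mem_coe.2 (Finset.mem_univ _), Prod.ext h1.symm (Subtype.ext ?_)⟩
      show (x : G) * ((x : G)⁻¹ * (a.2 : G)) = a.2
      group
    calc _ ≤ (Nat.card (cn (R ⊔ Subgroup.zpowers v)) : ℝ) *
          (regSq p (part (bl p P f (R ⊔ Subgroup.zpowers v)) v F) /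
            (Nat.card (cn (R ⊔ Subgroup.zpowers v)) : ℝ)) :=
          mul_le_mul_of_nonneg_right hcard (div_nonneg (regSq_nonneg _) (Nat.cast_nonneg _))
      _ = regSq p (part (bl p P f (R ⊔ Subgroup.zpowers v)) v F) :=
          mul_div_cancel₀ _ (Nat.cast_ne_zero.2 Nat.card_pos.ne')
      _ ≤ _ := hpoint (v, x) ha
  have himgX : ∀ w ∈ U.image img, w.1 ∈ X.filter (fun x => x ∉ R) := by
    intro w hw
    obtain ⟨⟨v, x⟩, ha, rfl⟩ := Finset.mem_image.1 hw
    have hv := (hZm v).1 (Finset.mem_product.1 ha).1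
    obtain ⟨k, hk⟩ := orderOf_pow h.isPGroup hv.1
    simp only [hX, Finset.mem_filter, Finset.mem_univ, true_and, img]
    refine ⟨⟨(cn R).mul_mem ((cn R).mul_mem x.2 (h.le_cn hR hv.1)) ((cn R).inv_mem x.2), k,
      (MulEquiv.orderOf_eq (MulAut.conj (x : G)) v).trans hk⟩, fun hmem => hv.2 ?_⟩
    have := (Subgroup.mem_centralizer_iff.1 x.2 _ hmem)
    rw [show (x : G) * v * (x : G)⁻¹ * (x : G) = (x : G) * v by group] at this
    rwa [← mul_left_cancel this] at hmem
  have hoff : ∑ w ∈ U.image img, V w ≤ ∑ x ∈ X.filter (fun x => x ∉ R), W x := by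
    rw [← Finset.sum_fiberwise_of_maps_to himgX]
    refine Finset.sum_le_sum fun x hx => ?_
    rw [show ∑ w ∈ (U.image img).filter (fun w => w.1 = x), V w =
        ∑ e' ∈ ((U.image img).filter fun w => w.1 = x).image Prod.snd, V (x, e') by
      rw [Finset.sum_image fun a ha b hb h => Prod.ext
        ((Finset.mem_filter.1 ha).2.trans (Finset.mem_filter.1 hb).2.symm) h]
      exact Finset.sum_congr rfl fun w hw => congrArg V (Prod.ext (Finset.mem_filter.1 hw).2 rfl)]
    exact hVW x (by simp only [hX, Finset.mem_filter] at hx; exact hx.1.2.1) _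
  have hRsum : ∑ x ∈ X.filter (fun x => x ∈ R), W x = (Nat.card R : ℝ) * regSq p (η : cn R → ℂ) := by
    rw [Finset.sum_congr rfl fun r hr => hRW r (Finset.mem_filter.1 hr).2, Finset.sum_const,
      nsmul_eq_mul, Nat.card_eq_fintype_card]
    congr 2
    refine (Fintype.card_of_subtype _ fun r => ?_).symm
    rw [Finset.mem_filter]
    exact ⟨fun h => h.2, fun h => ⟨hRX r h, h⟩⟩
  have hmain : ∑ a ∈ U, regSq p (part (bl p P f (R ⊔ Subgroup.zpowers a.1)) a.1 F) /
      (Nat.card (cn (R ⊔ Subgroup.zpowers a.1)) : ℝ) + (Nat.card R : ℝ) * regSq p (η : cn R → ℂ) ≤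
      (Nat.card (cn R) : ℝ) := by
    refine le_trans ?_ htot
    rw [← Finset.sum_filter_add_sum_filter_not X (fun x => x ∈ R), hRsum, add_comm]
    refine add_le_add le_rfl (le_trans ?_ hoff)
    rw [← Finset.sum_fiberwise_of_maps_to fun a ha => Finset.mem_image_of_mem img ha]
    exact Finset.sum_le_sum hfib
  rw [hU, Finset.sum_product] at hmain
  have hm := mul_le_mul_of_nonneg_left hmain
    (show (0 : ℝ) ≤ (Nat.card P : ℝ) / (Nat.card (cn R) : ℝ) by positivity)
  rw [mul_add, div_mul_cancel₀ _ (Nat.cast_ne_zero.2 Nat.card_pos.ne'), Finset.mul_sum] at hm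
  refine le_trans (le_of_eq ?_) hm
  congr 1
  · refine Finset.sum_congr rfl fun v _ => ?_
    simp only [Finset.sum_const, Finset.card_univ, nsmul_eq_mul, dgn]
    rw [← Nat.card_eq_fintype_card]
    field_simp [Nat.cast_ne_zero.2 (Nat.card_pos (α := cn R)).ne']
  · ring

end Setting

end CfsgLib.Blocks.AbelianFree
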