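import Cfsg.Agent.Blocks.Subsection.HeightCenter
import Cfsg.Agent.Blocks.Defect.InducedIn

/-!
# A block with abelian defect group and free inertial action

`bl S` is the block of the centralizer of `S ≤ P` below the maximal pair `(P, f)`.
-/

set_option autoImplicit false
open scoped MonoidAlgebra
open Cfsg CfsgLib CfsgLib.Blocks CfsgLib.Blocks.HeightZero

namespace CfsgLib.Blocks.AbelianFree

universe u

variable {G : Type u} [Group G] [Fintype G] {p : ℕ} {M : Ideal AlgInt}
  [M.IsMaximal]

/-- The centralizer of a subgroup. -/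
abbrev cn (S : Subgroup G) : Subgroup G := Subgroup.centralizer (S : Set G)

open scoped Classical in
/-- The block of the centralizer of `S` below the pair `(P, f)`. -/
noncomputable def bl (p : ℕ) (P : Subgroup G) (f : MonoidAlgebra (kres M) G) (S : Subgroup G) :
    Set (IrrCharacter (cn S)) :=
  if h : ∃ β : Set (IrrCharacter (cn S)), IsPBlock M β ∧ PairLE p ⊤ S (subEl M (cn S) β) P f then
    h.choose else ∅

/-- An abelian defect group with a free inertial action. -/
structure Setting (p : ℕ) (M : Ideal AlgInt) [M.IsMaximal] (B : Set (IrrCharacter G))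
    (P : Subgroup G) (f : MonoidAlgebra (kres M) G) : Prop where
  hM : IsPModular p M
  hB : IsPBlock M B
  defect : IsDefectGroup p M B P
  comm : ∀ x ∈ P, ∀ y ∈ P, x * y = y * x
  pair : IsPairOfIdem p ⊤ (topEl M B) P f
  free : ∀ t ∈ pairStab ⊤ P f, ∀ x ∈ P, x ≠ 1 → t * x * t⁻¹ = x → t ∈ cn P

omit [Fintype G] [M.IsMaximal] in
theorem cn_anti {R S : Subgroup G} (h : R ≤ S) : cn S ≤ cn R := Subgroup.centralizer_le h

namespace Setting

variable [Fact p.Prime] [CharP (kres M) p] {B : Set (IrrCharacter G)} {P : Subgroup G}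
  {f : MonoidAlgebra (kres M) G}

omit [Fact p.Prime] [CharP (kres M) p] in
theorem le_cn (h : Setting p M B P f) {S : Subgroup G} (hS : S ≤ P) : P ≤ cn S := fun u hu =>
  Subgroup.mem_centralizer_iff.mpr fun q hq => h.comm q (hS hq) u hu

omit [Fact p.Prime] [CharP (kres M) p] in
theorem le_normalizer (h : Setting p M B P f) {S : Subgroup G} (hS : S ≤ P) :
    P ≤ Subgroup.normalizer (S : Set G) :=
  (h.le_cn hS).trans (Subgroup.centralizer_le_normalizer _)

theorem isPGroup (h : Setting p M B P f) : IsPGroup p P :=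
  ((isDefectGroup_topEl_iff (p := p) h.hB P).1 h.defect).2.1

theorem isMax (h : Setting p M B P f) : IsMaxPairIdem p ⊤ (topEl M B) P f := by
  have hD := (isDefectGroup_topEl_iff (p := p) h.hB P).1 h.defect
  refine ⟨h.pair, fun R r hR hle => ?_⟩
  refine (Subgroup.eq_of_le_of_card_ge hle.le (hD.card_le le_top hR.1.1 fun h0 => ?_)).symm
  have h1 : brTrunc R (topEl M B) * r = r := hR.2
  rw [h0, zero_mul] at h1
  exact hR.1.2.2.ne_zero h1.symm

theorem spec (h : Setting p M B P f) {S : Subgroup G} (hS : S ≤ P) :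
    IsPBlock M (bl p P f S) ∧ PairLE p ⊤ S (subEl M (cn S) (bl p P f S)) P f := by
  obtain ⟨r, hr, -⟩ := h.pair.1.existsUnique_le hS
  obtain ⟨β, hβ, -, hβe⟩ := exists_brauerPair_eq (hr.isPair_left h.pair.1)
  have hex : ∃ β : Set (IrrCharacter (cn S)),
      IsPBlock M β ∧ PairLE p ⊤ S (subEl M (cn S) β) P f := ⟨β, hβ, hβe ▸ hr⟩
  rw [bl, dif_pos hex]
  exact hex.choose_spec

theorem blk (h : Setting p M B P f) {S : Subgroup G} (hS : S ≤ P) : IsPBlock M (bl p P f S) :=
  (h.spec hS).1

/-- The blocks below `(P, f)` induce `B`. -/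
theorem induced (h : Setting p M B P f) {S : Subgroup G} (hS : S ≤ P) :
    IsInducedBlock M (cn S) (bl p P f S) B := by
  have hof := ((h.spec hS).2.pairOf_iff (isBlockIdem_topEl h.hB) h.pair.1).2 h.pair
  exact (isInducedBlock_iff_brOver h.hM (h.isPGroup.to_le hS) (hS.trans (h.le_cn hS)) le_rfl
    (Subgroup.centralizer_le_normalizer _) (h.blk hS) h.hB).2 hof.2

/-- They induce one another. -/
theorem inducedIn (h : Setting p M B P f) {R S : Subgroup G} (hRS : R ≤ S) (hS : S ≤ P) :
    IsInducedBlockIn M (cn R) (cn S) (bl p P f S) (bl p P f R) := by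
  have hR := hRS.trans hS
  have hle := PairLE.intermediate h.pair.1 (h.spec hR).2 (h.spec hS).2 hRS
  have hn := hle.isNormal ((h.spec hS).2.isPair_left h.pair.1) (hS.trans (h.le_normalizer hR))
  exact (isInducedBlockIn_iff_brOver h.hM (h.isPGroup.to_le hS) (hS.trans (h.le_cn hS))
    (Subgroup.centralizer_le hRS) inf_le_right (Subgroup.centralizer_le_normalizer _) (h.blk hS)
    (h.blk hR)).2 hn.2.2.2.2.2

/-- All these blocks are major. -/
theorem defect_eq (h : Setting p M B P f) {S : Subgroup G} (hS : S ≤ P) :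
    blockDefect p (bl p P f S) = blockDefect p B := by
  classical
  have hp := h.hM.1
  have hcard := Contrib.natCard_defectGroup h.hM h.hB h.defect
  obtain ⟨hβ, hle⟩ := h.spec hS
  refine le_antisymm ?_ ?_
  · haveI := Fintype.ofFinite (cn S)
    obtain ⟨E, hE⟩ := HeightZero.exists_defectGroup h.hM hβ
    obtain ⟨E', hE', hle'⟩ := exists_defectGroup_map_le h.hM (h.induced hS) hE
    have h1 := Subgroup.card_le_of_le hle'
    rw [Subgroup.card_map_of_injective (cn S).subtype_injective,
      Contrib.natCard_defectGroup h.hM hβ hE, Contrib.natCard_defectGroup h.hM h.hB hE'] at h1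
    exact (Nat.pow_le_pow_iff_right hp.one_lt).1 h1
  · have hfb : IsBlockIdem (cn S) (subEl M (cn S) (bl p P f S)) := isBlockIdem_subEl hβ
    have hne := (hle.trunc_ne_zero h.pair.1 (le_inf le_rfl (h.le_normalizer hS))).1
    obtain ⟨E, hE⟩ := hfb.exists_defectGroup p
    obtain ⟨x, -, hle'⟩ := (brTrunc_ne_zero_iff hfb hE (h.le_cn hS) h.isPGroup).1 hne
    have hEC : E ≤ cn S := hE.1
    have h1 := Subgroup.card_le_of_le hle'
    rw [Subgroup.card_map_of_injective (MulAut.conj x).injective, hcard,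
      ← Nat.card_congr (Subgroup.subgroupOfEquivOfLe hEC).toEquiv,
      Contrib.natCard_defectGroup h.hM hβ ((isDefectGroup_subgroupOf_iff (p := p) hEC hβ).2 hE)] at h1
    exact (Nat.pow_le_pow_iff_right hp.one_lt).1 h1

/-- A map between subpairs is a stabilizing element times a centralizing one. -/
theorem fusion (h : Setting p M B P f) {S S' : Subgroup G} (hS : S ≤ P) (hS' : S' ≤ P) {x : G}
    (hmap : S.map (MulAut.conj x).toMonoidHom = S')
    (he : conjA x (subEl M (cn S) (bl p P f S)) = subEl M (cn S') (bl p P f S')) :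
    ∃ c ∈ cn S', c * x ∈ pairStab ⊤ P f := by
  have hE := isBlockIdem_topEl (M := M) h.hB
  have hle := (h.spec hS).2
  have hhR : PairLE p ⊤ (S.map (MulAut.conj x).toMonoidHom)
      (conjA x (subEl M (cn S) (bl p P f S))) P f := by
    rw [hmap, he]; exact (h.spec hS').2
  have hcar : Carries p P f S x := ⟨_, hle, hhR⟩
  have hfn : IsDefectGroupIdem p
      (pairStab ⊤ (S.map (MulAut.conj x).toMonoidHom) (conjA x (subEl M (cn S) (bl p P f S))))
      (conjA x (subEl M (cn S) (bl p P f S)))
      (P ⊓ Subgroup.normalizer ((S.map (MulAut.conj x).toMonoidHom : Subgroup G) : Set G)) := by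
    refine (isDefectGroupIdem_pairStab_iff hE h.isMax hhR).mp fun z _ => ?_
    have hN : P ≤ Subgroup.normalizer
        ((S.map (MulAut.conj x).toMonoidHom : Subgroup G) : Set G) := by
      rw [hmap]; exact h.le_normalizer hS'
    exact (Subgroup.card_le_of_le inf_le_left).trans
      (Subgroup.card_le_of_le (le_inf le_rfl hN))
  obtain ⟨c, hc, hcar'⟩ := Carries.extend hE h.isMax hle hcar hfn hS
    (le_inf le_rfl (h.le_normalizer hS))
    ((Subgroup.map_mono (h.le_cn hS)).trans (le_of_eq_of_le (map_conj_centralizer S x) le_sup_left))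
  have htP : P.map (MulAut.conj (c * x)).toMonoidHom = P :=
    Subgroup.eq_of_le_of_card_ge hcar'.le.2 (card_map_conj P _).ge
  have htf : conjA (c * x) f = f := by
    have hh' := hcar'.pairLE h.pair.1 (PairLE.refl ⊤ P f)
    rw [htP] at hh'
    exact hh'.unique h.pair.1 (PairLE.refl ⊤ P f)
  rw [hmap] at hc
  exact ⟨c, hc, mem_pairStab.mpr ⟨⟨trivial, mem_normalizer_of_map_conj_le htP.le⟩, htf⟩⟩

/-- Above a nontrivial subgroup distinct elements of `P` give distinct subsections. -/
theorem eq_of_fused (h : Setting p M B P f) {R : Subgroup G} (hR : R ≤ P) (hR1 : R ≠ ⊥) {v w : G}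
    (hv : v ∈ P) (hw : w ∈ P) {x : G} (hx : x ∈ cn R) (hxv : x * v * x⁻¹ = w)
    (he : conjA x (subEl M (cn (R ⊔ Subgroup.zpowers v)) (bl p P f (R ⊔ Subgroup.zpowers v))) =
      subEl M (cn (R ⊔ Subgroup.zpowers w)) (bl p P f (R ⊔ Subgroup.zpowers w))) : v = w := by
  have hS : R ⊔ Subgroup.zpowers v ≤ P := sup_le hR (Subgroup.zpowers_le.2 hv)
  have hS' : R ⊔ Subgroup.zpowers w ≤ P := sup_le hR (Subgroup.zpowers_le.2 hw)
  have hxR : R.map (MulAut.conj x).toMonoidHom = R :=
    map_conj_eq_of_mem_centralizer hx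
  obtain ⟨c, hc, ht⟩ := h.fusion hS hS' (x := x) (by
    rw [Subgroup.map_sup, hxR, MonoidHom.map_zpowers]
    exact congrArg _ (congrArg Subgroup.zpowers hxv)) he
  obtain ⟨⟨r, hr⟩, hr1⟩ := Subgroup.ne_bot_iff_exists_ne_one.mp hR1
  have hcR : c ∈ cn R := Subgroup.centralizer_le (le_sup_left : R ≤ R ⊔ Subgroup.zpowers w) hc
  have htR : c * x ∈ cn R := Subgroup.mul_mem _ hcR hx
  have htC := h.free _ ht r (hR hr) (fun e => hr1 (Subtype.ext e)) (by
    rw [← Subgroup.mem_centralizer_iff.mp htR r hr, mul_inv_cancel_right])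
  have hcw : c * w * c⁻¹ = w := by
    rw [← Subgroup.mem_centralizer_iff.mp hc w (Subgroup.mem_sup_right (Subgroup.mem_zpowers w)),
      mul_inv_cancel_right]
  have htv : c * x * v * (c * x)⁻¹ = v := by
    rw [← Subgroup.mem_centralizer_iff.mp htC v hv, mul_inv_cancel_right]
  rw [← htv, ← hcw, ← hxv]
  group

end Setting

end CfsgLib.Blocks.AbelianFree
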