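import Cfsg.Agent.Blocks.AbelianFree.Local

/-!
# Invariance under the stabilizer of the pair

The blocks, the scalars and the signs are carried to one another by the stabilizer of `(P, f)`.
-/

set_option autoImplicit false
open scoped MonoidAlgebra ComplexConjugate Classical
open Cfsg CfsgLib CfsgLib.Blocks CfsgLib.Blocks.HeightZero CfsgLib.Blocks.Contrib

namespace CfsgLib.Blocks.AbelianFree

universe u

variable {G : Type u} [Group G] [Fintype G] {p : ℕ} {M : Ideal AlgInt} [M.IsMaximal]

omit [M.IsMaximal] in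
/-- Conjugation carries a centralizer to the centralizer of the image. -/
theorem map_cn (t : G) (S : Subgroup G) :
    (cn S).map (MulAut.conj t).toMonoidHom = cn (S.map (MulAut.conj t).toMonoidHom) :=
  map_conj_centralizer S t

namespace Setting

variable [Fact p.Prime] [CharP (kres M) p] {B : Set (IrrCharacter G)} {P : Subgroup G}
  {f : MonoidAlgebra (kres M) G} {S : Subgroup G} {t : G}

omit [Fact p.Prime] [CharP (kres M) p] in
theorem map_stab (_h : Setting p M B P f) (ht : t ∈ pairStab ⊤ P f) :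
    P.map (MulAut.conj t).toMonoidHom = P :=
  map_conj_eq_self_of_mem_normalizer (mem_pairStab.mp ht).1.2

omit [Fact p.Prime] [CharP (kres M) p] in
theorem map_le (h : Setting p M B P f) (ht : t ∈ pairStab ⊤ P f) (hS : S ≤ P) :
    S.map (MulAut.conj t).toMonoidHom ≤ P :=
  (Subgroup.map_mono hS).trans (h.map_stab ht).le

/-- The blocks below the pair are carried to one another. -/
theorem bl_conj (h : Setting p M B P f) (ht : t ∈ pairStab ⊤ P f) (hS : S ≤ P) :
    mapBlock (conjIso (cn S) (cn (S.map (MulAut.conj t).toMonoidHom)) t (map_cn t S)) (bl p P f S) =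
      bl p P f (S.map (MulAut.conj t).toMonoidHom) := by
  refine subEl_injective (M := M) (isPBlock_mapBlock _ (h.blk hS)) (h.blk (h.map_le ht hS)) ?_
  rw [subEl_mapBlock_conj]
  have h1 := (h.spec hS).2.conjA (x := t) trivial
  rw [h.map_stab ht, (mem_pairStab.mp ht).2] at h1
  exact PairLE.unique h.pair.1 h1 (h.spec (h.map_le ht hS)).2

/-- The common functions correspond. -/
theorem rep_conj (h : Setting p M B P f) (ht : t ∈ pairStab ⊤ P f) (hS : S ≤ P)
    (hReg : Reg p P f S) {s : cn S} (hs : IsPRegular p s)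
    {s' : cn (S.map (MulAut.conj t).toMonoidHom)} (hs' : (s' : G) = t * s * t⁻¹) :
    rep p P f (S.map (MulAut.conj t).toMonoidHom) s' = rep p P f S s := by
  obtain ⟨θ, hθ, hrep⟩ := h.exists_rep (h.map_le ht hS)
  rw [hrep]
  rw [← h.bl_conj ht hS] at hθ
  obtain ⟨ξ, hξ, rfl⟩ := hθ
  rw [← hReg.eq_reg ξ hξ s hs, Chars.irrEquiv_apply]
  exact congrArg _ ((MulEquiv.symm_apply_eq _).2 (Subtype.ext (by rw [coe_conjIso, hs'])))

/-- The scalars are carried along. -/
theorem pval_conj (h : Setting p M B P f) (ht : t ∈ pairStab ⊤ P f) (hS : S ≤ P)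
    (hReg : Reg p P f S) (v : G) (F : G → ℂ) :
    pval p P f (S.map (MulAut.conj t).toMonoidHom) (t * v * t⁻¹) F =
      pval p P f S v (fun g => F (t * g * t⁻¹)) := by
  set φ := conjIso (cn S) (cn (S.map (MulAut.conj t).toMonoidHom)) t (map_cn t S) with hφ
  rw [pval, pval, ← Nat.card_congr φ.toEquiv]
  congr 1
  refine (Finset.sum_equiv φ.toEquiv (fun s => ?_) fun s hs => ?_).symm
  · simp only [mem_regSet, IsPRegular, MulEquiv.toEquiv_eq_coe, EquivLike.coe_coe,
      MulEquiv.orderOf_eq]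
  · rw [MulEquiv.toEquiv_eq_coe, EquivLike.coe_coe,
      h.rep_conj ht hS hReg (mem_regSet.1 hs) (coe_conjIso _ _ _ _ s), coe_conjIso]
    congr 2
    group

/-- The linear characters are carried along. -/
theorem lin_conj (h : Setting p M B P f) (ht : t ∈ pairStab ⊤ P f) (hS : S ≤ P) (hS1 : S ≠ ⊥)
    (hinv : ∀ T, S < T → T ≤ P →
      eps p P f (T.map (MulAut.conj t).toMonoidHom) = eps p P f T)
    {a : ℂ} (hl : Lin p P f (eps p P f) S a) :
    Lin p P f (eps p P f) (S.map (MulAut.conj t).toMonoidHom) a := by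
  intro η' hη'
  rw [← h.bl_conj ht hS] at hη'
  obtain ⟨η, hη, rfl⟩ := hη'
  obtain ⟨ψ, hψ⟩ := hl η hη
  set S' := S.map (MulAut.conj t).toMonoidHom with hS'
  have hF : ∀ g : G, extFun (cn S') ((Chars.irrEquiv (conjIso (cn S) (cn S') t (map_cn t S)) η :
      IrrCharacter (cn S')) : cn S' → ℂ) (t * g * t⁻¹) = extFun (cn S) (η : cn S → ℂ) g := by
    intro g
    have hiff : t * g * t⁻¹ ∈ cn S' ↔ g ∈ cn S := by
      rw [hS', ← map_cn]
      exact (cn S).mem_map_iff_mem (f := (MulAut.conj t).toMonoidHom) (MulAut.conj t).injective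
    by_cases hg : g ∈ cn S
    · rw [extFun_of_mem _ (hiff.2 hg), extFun_of_mem _ hg, Chars.irrEquiv_apply]
      exact congrArg _ ((MulEquiv.symm_apply_eq _).2 (Subtype.ext (coe_conjIso _ _ _ _ ⟨g, hg⟩).symm))
    · rw [extFun, extFun, dif_neg hg, dif_neg fun h' => hg (hiff.1 h')]
  have htinv : t⁻¹ ∈ pairStab ⊤ P f := Subgroup.inv_mem _ ht
  have hmem : ∀ v : P, t⁻¹ * (v : G) * t ∈ P := fun v => by
    have h1 := (Subgroup.mem_normalizer_iff.1 (mem_pairStab.mp htinv).1.2 (v : G)).1 v.2
    rwa [inv_inv] at h1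
  let back : P →* P :=
    { toFun := fun v => ⟨t⁻¹ * (v : G) * t, hmem v⟩
      map_one' := Subtype.ext (by simp)
      map_mul' := fun a b => Subtype.ext (by show _ = _; push_cast; group) }
  refine ⟨ψ.comp back, fun v => ?_⟩
  set w : P := back v with hw
  have hvw : (v : G) = t * (w : G) * t⁻¹ := by
    show (v : G) = t * (t⁻¹ * (v : G) * t) * t⁻¹
    group
  have hiff : (v : G) ∈ S' ↔ (w : G) ∈ S := by
    rw [hvw, hS']
    exact S.mem_map_iff_mem (f := (MulAut.conj t).toMonoidHom) (MulAut.conj t).injective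
  have hne : ∀ T, S ≤ T → T ≠ ⊥ := fun T hT e => hS1 (eq_bot_iff.2 (e ▸ hT))
  refine ⟨fun hv => ?_, fun hv => ?_⟩
  · rw [hvw, h.pval_conj ht hS (h.main hS hS1).1]
    rw [funext hF]
    exact (hψ w).1 (hiff.1 hv)
  · have hw' : (w : G) ∉ S := fun h' => hv (hiff.2 h')
    have hT : S ⊔ Subgroup.zpowers (w : G) ≤ P := sup_le hS (Subgroup.zpowers_le.2 w.2)
    have hmap : S' ⊔ Subgroup.zpowers (v : G) =
        (S ⊔ Subgroup.zpowers (w : G)).map (MulAut.conj t).toMonoidHom := by
      rw [Subgroup.map_sup, ← hS', MonoidHom.map_zpowers, hvw]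
      rfl
    rw [hmap, hinv _ (lt_of_le_of_ne le_sup_left fun e =>
        hw' (e ▸ Subgroup.mem_sup_right (Subgroup.mem_zpowers _))) hT, hvw,
      h.pval_conj ht hT (h.main hT (hne _ le_sup_left)).1]
    rw [funext hF]
    exact (hψ w).2 hw'

/-- The signs are invariant. -/
theorem eps_conj (h : Setting p M B P f) :
    ∀ {S : Subgroup G}, S ≤ P → S ≠ ⊥ → ∀ {t : G}, t ∈ pairStab ⊤ P f →
      eps p P f (S.map (MulAut.conj t).toMonoidHom) = eps p P f S := by
  intro S
  induction S using (wellFounded_gt (α := Subgroup G)).induction with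
  | _ S ih =>
    intro hS hS1 t ht
    have hne : ∀ T, S ≤ T → T ≠ ⊥ := fun T hT e => hS1 (eq_bot_iff.2 (e ▸ hT))
    rw [eps_eq P f (S.map _), eps_eq P f S]
    refine if_congr ⟨fun hl => ?_, fun hl => ?_⟩ rfl rfl
    · have hback := h.lin_conj (Subgroup.inv_mem _ ht) (h.map_le ht hS)
        (fun e => hS1 ((Subgroup.map_eq_bot_iff_of_injective _ (MulAut.conj t).injective).1 e))
        (fun T hT hTP => ?_) hl
      · rwa [map_conj_map_conj, inv_mul_cancel, map_conj_one] at hback
      · have hlt : S < T.map (MulAut.conj t⁻¹).toMonoidHom := by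
          have h1 := (Subgroup.map_lt_map_iff_of_injective
            (f := (MulAut.conj t⁻¹).toMonoidHom) (MulAut.conj t⁻¹).injective).2 hT
          rwa [map_conj_map_conj, inv_mul_cancel, map_conj_one] at h1
        have h2 := ih _ hlt (h.map_le (Subgroup.inv_mem _ ht) hTP) (hne _ hlt.le) ht
        rw [map_conj_map_conj, mul_inv_cancel, map_conj_one] at h2
        exact h2.symm
    · exact h.lin_conj ht hS hS1 (fun T hT hTP => ih T hT hTP (hne T hT.le) ht) hl

end Setting

end CfsgLib.Blocks.AbelianFree
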