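import Cfsg.Agent.Blocks.AbelianFree.Section
import Cfsg.Agent.Blocks.AbelianFree.Fourier
import Cfsg.Agent.Eq.Def_Blocks

/-!
# Scalars of the parts in a block of rank one

If the block of the centralizer of `S` has one function on the regular elements, the part of a
function is a multiple of it; `pval` is the scalar.
-/

set_option autoImplicit false
open scoped MonoidAlgebra ComplexConjugate Classical
open Cfsg CfsgLib CfsgLib.Blocks CfsgLib.Blocks.HeightZero CfsgLib.Blocks.Contrib

namespace CfsgLib.Blocks.AbelianFree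

universe u

variable {G : Type u} [Group G] [Fintype G] {p : ℕ} {M : Ideal AlgInt} [M.IsMaximal]

/-- A member of the block below `(P, f)`. -/
noncomputable def rep (p : ℕ) (P : Subgroup G) (f : MonoidAlgebra (kres M) G) (S : Subgroup G) :
    cn S → ℂ :=
  if h : (bl p P f S).Nonempty then (h.choose : cn S → ℂ) else 0

/-- The scalar of the part of a translate. -/
noncomputable def pval (p : ℕ) (P : Subgroup G) (f : MonoidAlgebra (kres M) G) (S : Subgroup G)
    (v : G) (F : G → ℂ) : ℂ :=
  (Nat.card P : ℂ) / (Nat.card (cn S) : ℂ) *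
    ∑ s ∈ regSet p (cn S), F (v * (s : G)) * conj (rep p P f S s)

/-- One function on the regular elements, of the least norm. -/
structure Reg (p : ℕ) (P : Subgroup G) (f : MonoidAlgebra (kres M) G) (S : Subgroup G) : Prop where
  eq_reg : ∀ η ∈ bl p P f S, ∀ s : cn S, IsPRegular p s → (η : cn S → ℂ) s = rep p P f S s
  norm : (Nat.card P : ℝ) * regSq p (rep p P f S) = Nat.card (cn S)
  rank : blockRank p (bl p P f S) = 1

theorem pval_congr (P : Subgroup G) (f : MonoidAlgebra (kres M) G) {S : Subgroup G} {v : G}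
    {F F' : G → ℂ} (h : ∀ s : cn S, IsPRegular p s → F (v * (s : G)) = F' (v * (s : G))) :
    pval p P f S v F = pval p P f S v F' := by
  rw [pval, pval]
  congr 1
  exact Finset.sum_congr rfl fun s hs => by rw [h s (mem_regSet.1 hs)]

theorem pval_smul (P : Subgroup G) (f : MonoidAlgebra (kres M) G) (S : Subgroup G) (v : G)
    (a : ℂ) (F : G → ℂ) : pval p P f S v (fun g => a * F g) = a * pval p P f S v F := by
  simp only [pval, mul_assoc, ← Finset.mul_sum]
  ring

theorem pval_sum (P : Subgroup G) (f : MonoidAlgebra (kres M) G) (S : Subgroup G) (v : G)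
    {ι : Type*} (s : Finset ι) (a : ι → ℂ) (F : ι → G → ℂ) :
    pval p P f S v (fun g => ∑ i ∈ s, a i * F i g) = ∑ i ∈ s, a i * pval p P f S v (F i) := by
  simp only [pval, Finset.sum_mul, Finset.mul_sum]
  rw [Finset.sum_comm]
  exact Finset.sum_congr rfl fun i _ => Finset.sum_congr rfl fun _ _ => by ring

/-- The translate of a function invariant in `cn R` is a class function on `cn (R ⊔ ⟨v⟩)`. -/
theorem isClassFunction_part {R : Subgroup G} {v : G} (hvR : v ∈ cn R) (θ : IrrCharacter (cn R)) :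
    IsClassFunction (cn (R ⊔ Subgroup.zpowers v))
      fun s : cn (R ⊔ Subgroup.zpowers v) => extFun (cn R) (θ : cn R → ℂ) (v * (s : G)) := by
  intro g k
  obtain ⟨hk1, hk2⟩ := mem_cn_sup.1 k.2
  have hg := cn_anti (le_sup_left : R ≤ R ⊔ Subgroup.zpowers v) g.2
  show extFun (cn R) _ (v * ((k * g * k⁻¹ : cn (R ⊔ Subgroup.zpowers v)) : G)) = _
  push_cast
  have e : v * ((k : G) * g * (k : G)⁻¹) = (k : G) * (v * g) * (k : G)⁻¹ := by
    rw [← mul_assoc, ← mul_assoc, ← hk2]; group
  have hvg := (cn R).mul_mem hvR hg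
  rw [e, extFun_of_mem _ ((cn R).mul_mem ((cn R).mul_mem hk1 hvg) ((cn R).inv_mem hk1)),
    extFun_of_mem _ hvg]
  exact Chars.isClassFunction_coe θ ⟨_, hvg⟩ ⟨_, hk1⟩

namespace Setting

variable [Fact p.Prime] [CharP (kres M) p] {B : Set (IrrCharacter G)} {P : Subgroup G}
  {f : MonoidAlgebra (kres M) G} {R S : Subgroup G} {v : G}

theorem bl_nonempty (h : Setting p M B P f) (hS : S ≤ P) : (bl p P f S).Nonempty := by
  obtain ⟨η, hη, -⟩ := exists_height_zero (p := p) (h.blk hS)
  exact ⟨η, hη⟩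

theorem exists_rep (h : Setting p M B P f) (hS : S ≤ P) :
    ∃ θ ∈ bl p P f S, rep p P f S = (θ : cn S → ℂ) :=
  ⟨_, (h.bl_nonempty hS).choose_spec, by rw [rep, dif_pos (h.bl_nonempty hS)]⟩

theorem rep_one_ne_zero (h : Setting p M B P f) (hS : S ≤ P) : rep p P f S 1 ≠ 0 := by
  obtain ⟨θ, -, e⟩ := h.exists_rep hS
  rw [e]
  exact Chars.map_one_ne_zero θ

theorem isPRegular_one (h : Setting p M B P f) {K : Type u} [Group K] :
    IsPRegular p (1 : K) := by
  simp [IsPRegular, h.hM.1.ne_one]

/-- A part is the scalar times the common function. -/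
theorem part_eq_smul (h : Setting p M B P f) (hS : S ≤ P) (hReg : Reg p P f S) {F : G → ℂ}
    (hF : IsClassFunction (cn S) fun s : cn S => F (v * (s : G))) {s : cn S}
    (hs : IsPRegular p s) :
    part (bl p P f S) v F s = pval p P f S v F * rep p P f S s := by
  obtain ⟨θ, hθ, hrep⟩ := h.exists_rep hS
  set φ := fun s : cn S => F (v * (s : G)) with hφ
  set a := ∑ ξ ∈ (bl p P f S).toFinite.toFinset, classInner φ (ξ : cn S → ℂ)
  have hval : ∀ s : cn S, IsPRegular p s → blockPart (bl p P f S) φ s = a * rep p P f S s := by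
    intro s hs
    rw [blockPart_apply_eq, Finset.sum_apply, Finset.sum_mul]
    refine Finset.sum_congr rfl fun ξ hξ => ?_
    rw [Pi.smul_apply, smul_eq_mul, hReg.eq_reg ξ ((Set.Finite.mem_toFinset _).1 hξ) s hs]
  suffices pval p P f S v F = a by rw [part, ← hφ, hval s hs, this]
  have h1 := sum_blockPart_mul_conj h.hM (h.blk hS) hF (Chars.isClassFunction_coe θ)
  rw [Finset.sum_congr rfl fun x hx => by rw [blockPart_of_mem hθ, hval x (mem_regSet.1 hx)]] at h1
  have h2 := sum_blockPart_mul_conj h.hM (h.blk hS) (Chars.isClassFunction_coe θ) hF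
  rw [blockPart_of_mem hθ] at h2
  have h3 : ∑ x ∈ regSet p (cn S), φ x * conj (rep p P f S x) =
      a * ((regSq p (rep p P f S) : ℝ) : ℂ) := by
    have h4 := congrArg conj h2
    simp only [map_sum, map_mul, Complex.conj_conj] at h4
    rw [regSq_eq, Complex.ofReal_sum, Finset.mul_sum]
    calc ∑ x ∈ regSet p (cn S), φ x * conj (rep p P f S x)
        = ∑ x ∈ regSet p (cn S), conj ((θ : cn S → ℂ) x) * φ x :=
          Finset.sum_congr rfl fun x _ => by rw [hrep, mul_comm]
      _ = ∑ x ∈ regSet p (cn S), conj ((θ : cn S → ℂ) x) * blockPart (bl p P f S) φ x := h4.symm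
      _ = _ := Finset.sum_congr rfl fun x hx => by
          rw [hval x (mem_regSet.1 hx), hrep, Complex.ofReal_pow, ← Complex.mul_conj']
          ring
  have hn := congrArg (fun r : ℝ => (r : ℂ)) hReg.norm
  push_cast at hn
  have hC : (Nat.card (cn S) : ℂ) ≠ 0 := Nat.cast_ne_zero.2 Nat.card_pos.ne'
  rw [pval, h3]
  field_simp
  linear_combination a * hn

/-- The norm of a part is the squared absolute value of its scalar. -/
theorem dgn_eq (h : Setting p M B P f) (hS : S ≤ P) (hReg : Reg p P f S) {F : G → ℂ}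
    (hF : IsClassFunction (cn S) fun s : cn S => F (v * (s : G))) :
    dgn p P f S v F = ‖pval p P f S v F‖ ^ 2 := by
  have e : regSq p (part (bl p P f S) v F) =
      ‖pval p P f S v F‖ ^ 2 * regSq p (rep p P f S) := by
    rw [regSq_eq, regSq_eq, Finset.mul_sum]
    exact Finset.sum_congr rfl fun s hs => by
      rw [h.part_eq_smul hS hReg hF (mem_regSet.1 hs), norm_mul, mul_pow]
  rw [dgn, e]
  field_simp
  linear_combination ‖pval p P f S v F‖ ^ 2 * hReg.norm

/-- The scalar of a character outside the block vanishes. -/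
theorem pval_eq_zero (h : Setting p M B P f) (hR : R ≤ P) (hv : v ∈ P)
    (hReg : Reg p P f (R ⊔ Subgroup.zpowers v)) {θ : IrrCharacter (cn R)}
    (hθ : θ ∉ bl p P f R) :
    pval p P f (R ⊔ Subgroup.zpowers v) v (extFun (cn R) (θ : cn R → ℂ)) = 0 := by
  have hS : R ⊔ Subgroup.zpowers v ≤ P := sup_le hR (Subgroup.zpowers_le.2 hv)
  have h1 := h.part_eq_smul hS hReg (isClassFunction_part (h.le_cn hR hv) θ) (h.isPRegular_one)
  rw [h.part_eq_zero hR hv hθ h.isPRegular_one, eq_comm, mul_eq_zero] at h1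
  exact h1.resolve_right (h.rep_one_ne_zero hS)

/-- The linear character by which `R` acts on a character of its centralizer. -/
theorem exists_actHom (h : Setting p M B P f) (hR : R ≤ P) (η : IrrCharacter (cn R)) :
    ∃ lam : R →* ℂˣ, ∀ (r : R) (g : cn R),
      extFun (cn R) (η : cn R → ℂ) ((r : G) * g) = (lam r : ℂ) * (η : cn R → ℂ) g := by
  obtain ⟨μ, hμ⟩ := exists_centralHom η
  have hc : ∀ r : R, (⟨(r : G), h.le_cn hR (hR r.2)⟩ : cn R) ∈ Subgroup.center (cn R) := fun r =>
    Subgroup.mem_center_iff.2 fun g =>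
      Subtype.ext (Subgroup.mem_centralizer_iff.1 g.2 r r.2).symm
  refine ⟨μ.comp ⟨⟨fun r => ⟨⟨(r : G), h.le_cn hR (hR r.2)⟩, hc r⟩, rfl⟩, fun a b => rfl⟩,
    fun r g => ?_⟩
  rw [extFun_of_mem _ ((cn R).mul_mem (h.le_cn hR (hR r.2)) g.2), MonoidHom.comp_apply]
  exact hμ ⟨⟨(r : G), h.le_cn hR (hR r.2)⟩, hc r⟩ g

end Setting

end CfsgLib.Blocks.AbelianFree
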